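import Groth.Agent.L11.Amitsur.TensorPow
import Mathlib.RingTheory.Localization.FractionRing
import Mathlib.RingTheory.Localization.Integer
import Mathlib.RingTheory.Polynomial.UniqueFactorization
import Mathlib.RingTheory.UniqueFactorizationDomain.GCDMonoid
import Mathlib.RingTheory.MvPolynomial.Basic
import Mathlib.Algebra.MvPolynomial.Nilpotent
import Mathlib.Algebra.Polynomial.Degree.Lemmas

/-!
# Amitsur's kernel computation

A projective semilinear representation `M` with cocycle `a` gives twisted automorphisms of the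
rational function field in the coordinates; a cocycle that becomes trivial over the invariants is
cohomologous to a power of `a`.
-/

set_option autoImplicit false
set_option linter.style.haveILetI false

noncomputable section

universe u

open scoped TensorProduct
open MvPolynomial

namespace Groth.L11.Amitsur

variable {k : Type u} [Field k] {K : Type u} [Field K] [Algebra k K] {ι : Type} [Fintype ι] [DecidableEq ι]

/-- The rational function field in the coordinates. -/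
abbrev Rat (K : Type u) [Field K] (ι : Type) : Type u := FractionRing (MvPolynomial ι K)

variable (K ι) in
/-- The coordinate vector. -/
def gen : ι → Rat K ι := fun i => algebraMap (MvPolynomial ι K) (Rat K ι) (X i)

omit [DecidableEq ι] in
theorem algebraMap_C (c : K) :
    algebraMap (MvPolynomial ι K) (Rat K ι) (C c) = algebraMap K (Rat K ι) c :=
  (IsScalarTower.algebraMap_apply K (MvPolynomial ι K) (Rat K ι) c).symm

/-- The semilinear substitution `t ↦ t M`. -/
def substHom (σ : K ≃ₐ[k] K) (M : Matrix ι ι K) : MvPolynomial ι K →+* MvPolynomial ι K :=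
  eval₂Hom ((C : K →+* MvPolynomial ι K).comp (σ : K →+* K)) fun j => ∑ i, C (M i j) * X i

omit [DecidableEq ι] in
theorem substHom_C (σ : K ≃ₐ[k] K) (M : Matrix ι ι K) (c : K) : substHom σ M (C c) = C (σ c) := by
  simp [substHom]

omit [DecidableEq ι] in
theorem substHom_X (σ : K ≃ₐ[k] K) (M : Matrix ι ι K) (j : ι) :
    substHom σ M (X j) = ∑ i, C (M i j) * X i := by
  simp [substHom]

omit [DecidableEq ι] in
theorem substHom_comp (σ τ : K ≃ₐ[k] K) (M N : Matrix ι ι K) :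
    (substHom σ M).comp (substHom τ N) = substHom (σ * τ) (M * N.map σ) := by
  refine MvPolynomial.ringHom_ext (fun c => ?_) fun j => ?_
  · simp [substHom_C]
  · simp only [RingHom.comp_apply, substHom_X, map_sum, map_mul, substHom_C, Matrix.mul_apply, Matrix.map_apply,
      Finset.mul_sum, Finset.sum_mul]
    rw [Finset.sum_comm]
    refine Finset.sum_congr rfl fun i _ => Finset.sum_congr rfl fun l _ => by ring

omit [DecidableEq ι] in
theorem substHom_substHom (σ τ : K ≃ₐ[k] K) (M N : Matrix ι ι K) (p : MvPolynomial ι K) :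
    substHom σ M (substHom τ N p) = substHom (σ * τ) (M * N.map σ) p := by
  rw [← substHom_comp, RingHom.comp_apply]

theorem substHom_one : substHom (1 : K ≃ₐ[k] K) (1 : Matrix ι ι K) = RingHom.id _ := by
  refine MvPolynomial.ringHom_ext (fun c => ?_) fun j => ?_
  · simp [substHom_C]
  · simp [substHom_X, Matrix.one_apply]

/-- The inverse matrix for the substitution. -/
def invMat (σ : K ≃ₐ[k] K) (M : (Matrix ι ι K)ˣ) : Matrix ι ι K := (↑M⁻¹ : Matrix ι ι K).map (σ⁻¹ : K ≃ₐ[k] K)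

/-- The substitution as an automorphism. -/
def subst (σ : K ≃ₐ[k] K) (M : (Matrix ι ι K)ˣ) : MvPolynomial ι K ≃+* MvPolynomial ι K :=
  RingEquiv.ofRingHom (substHom σ M) (substHom σ⁻¹ (invMat σ M))
    (by
      rw [substHom_comp, invMat, map_map_aut, mul_inv_cancel,
        show (↑M⁻¹ : Matrix ι ι K).map (1 : K ≃ₐ[k] K) = ↑M⁻¹ from Matrix.map_id _, Units.mul_inv, substHom_one])
    (by rw [substHom_comp, invMat, ← map_mul_aut, Units.inv_mul, map_one_aut, inv_mul_cancel, substHom_one])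

/-- The induced automorphism of the function field. -/
def act (σ : K ≃ₐ[k] K) (M : (Matrix ι ι K)ˣ) : Rat K ι ≃+* Rat K ι :=
  IsFractionRing.ringEquivOfRingEquiv (subst σ M)

theorem act_algebraMap (σ : K ≃ₐ[k] K) (M : (Matrix ι ι K)ˣ) (p : MvPolynomial ι K) :
    act σ M (algebraMap _ _ p) = algebraMap (MvPolynomial ι K) (Rat K ι) (substHom σ M p) :=
  IsFractionRing.ringEquivOfRingEquiv_algebraMap _ p

theorem act_K (σ : K ≃ₐ[k] K) (M : (Matrix ι ι K)ˣ) (c : K) :
    act σ M (algebraMap K (Rat K ι) c) = algebraMap K (Rat K ι) (σ c) := by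
  rw [← algebraMap_C, act_algebraMap, substHom_C, algebraMap_C]

theorem act_gen (σ : K ≃ₐ[k] K) (M : (Matrix ι ι K)ˣ) (j : ι) :
    act σ M (gen K ι j) = ∑ i, algebraMap K (Rat K ι) ((M : Matrix ι ι K) i j) * gen K ι i := by
  rw [gen, act_algebraMap, substHom_X, map_sum]
  simp only [map_mul, algebraMap_C, gen]

theorem act_ext {f g : Rat K ι →+* Rat K ι}
    (h : ∀ p, f (algebraMap (MvPolynomial ι K) _ p) = g (algebraMap _ _ p)) : f = g :=
  IsLocalization.ringHom_ext (nonZeroDivisors (MvPolynomial ι K)) (RingHom.ext h)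

theorem act_act (σ τ : K ≃ₐ[k] K) (M N L : (Matrix ι ι K)ˣ) (h : (M : Matrix ι ι K) * (N : Matrix ι ι K).map σ = L)
    (x : Rat K ι) : act σ M (act τ N x) = act (σ * τ) L x := by
  have := act_ext (f := (act σ M).toRingHom.comp (act τ N).toRingHom) (g := (act (σ * τ) L).toRingHom) fun p => by
    simp only [RingHom.comp_apply, RingEquiv.toRingHom_eq_coe, RingEquiv.coe_toRingHom, act_algebraMap]
    rw [substHom_substHom, h]
  exact RingHom.congr_fun this x

/-- The scalar matrix. -/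
def dil (c : Kˣ) : (Matrix ι ι K)ˣ := Units.map (Matrix.scalar ι).toMonoidHom c

theorem dil_coe (c : Kˣ) : ((dil c : (Matrix ι ι K)ˣ) : Matrix ι ι K) = (c : K) • 1 := by
  ext i j
  by_cases hij : i = j <;> simp [dil, Matrix.scalar_apply, Matrix.one_apply, hij]

/-- `h` of weight `z` under dilations. -/
theorem exists_weight [Nonempty ι] (h : Rat K ι) (hh : h ≠ 0) : ∃ z : ℤ, ∀ (c : Kˣ) (γ : K),
    act (1 : K ≃ₐ[k] K) (dil c) h = algebraMap K (Rat K ι) γ * h → γ = (c : K) ^ z := by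
  obtain ⟨p, q, hq, rfl⟩ := IsFractionRing.div_surjective (MvPolynomial ι K) h
  have hq0 : q ≠ 0 := nonZeroDivisors.ne_zero hq
  have hp0 : p ≠ 0 := fun h0 => hh (by rw [h0, map_zero, zero_div])
  let Λ : MvPolynomial ι K →+* Polynomial (MvPolynomial ι K) :=
    eval₂Hom ((Polynomial.C).comp C) fun i => Polynomial.C (X i) * Polynomial.X
  have hΛ : Function.Injective Λ := by
    have h1 : (Polynomial.evalRingHom (1 : MvPolynomial ι K)).comp Λ = RingHom.id _ :=
      MvPolynomial.ringHom_ext (fun c => by simp [Λ]) fun i => by simp [Λ]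
    exact Function.LeftInverse.injective (g := Polynomial.evalRingHom (1 : MvPolynomial ι K))
      fun x => RingHom.congr_fun h1 x
  refine ⟨((Λ p).natDegree : ℤ) - (Λ q).natDegree, fun c γ hγ => ?_⟩
  have hcomp : ∀ r, Λ (substHom (1 : K ≃ₐ[k] K) ((dil c : (Matrix ι ι K)ˣ) : Matrix ι ι K) r) =
      (Λ r).comp (Polynomial.C (C (c : K)) * Polynomial.X) := by
    intro r
    have h1 : Λ.comp (substHom (1 : K ≃ₐ[k] K) ((dil c : (Matrix ι ι K)ˣ) : Matrix ι ι K)) =
        (Polynomial.compRingHom (Polynomial.C (C (c : K)) * Polynomial.X)).comp Λ := by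
      refine MvPolynomial.ringHom_ext (fun a => ?_) fun j => ?_
      · simp [Λ, substHom_C]
      · simp only [RingHom.comp_apply, substHom_X, dil_coe, Matrix.smul_apply, Matrix.one_apply, smul_eq_mul,
          mul_ite, mul_one, mul_zero]
        simp [Λ, apply_ite, ite_mul, mul_left_comm]
    exact RingHom.congr_fun h1 r
  rw [map_div₀, act_algebraMap, act_algebraMap, ← algebraMap_C, mul_div_assoc'] at hγ
  have hqc : algebraMap (MvPolynomial ι K) (Rat K ι) (substHom (1 : K ≃ₐ[k] K) ((dil c : (Matrix ι ι K)ˣ) : Matrix ι ι K) q) ≠ 0 :=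
    (map_ne_zero_iff _ (IsFractionRing.injective _ _)).2
      ((map_ne_zero_iff _ (subst (1 : K ≃ₐ[k] K) (dil c)).injective).2 hq0)
  rw [div_eq_div_iff hqc ((map_ne_zero_iff _ (IsFractionRing.injective _ _)).2 hq0), ← map_mul, ← map_mul,
    ← map_mul] at hγ
  have h2 := congrArg (fun x => (Λ x).leadingCoeff) (IsFractionRing.injective (MvPolynomial ι K) (Rat K ι) hγ)
  have hc0 : (C (c : K) : MvPolynomial ι K) ≠ 0 := by simp
  have hdeg : (Polynomial.C (C (c : K) : MvPolynomial ι K) * Polynomial.X).natDegree ≠ 0 := by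
    rw [Polynomial.natDegree_C_mul_X _ hc0]; exact one_ne_zero
  have hΛγ : Λ (C γ) = Polynomial.C (C γ) := by simp [Λ]
  simp only [map_mul, hcomp, hΛγ, Polynomial.leadingCoeff_mul, Polynomial.leadingCoeff_comp hdeg,
    Polynomial.leadingCoeff_C, Polynomial.leadingCoeff_X, mul_one, ← map_pow] at h2
  have hlp : (Λ p).leadingCoeff ≠ 0 := Polynomial.leadingCoeff_ne_zero.2 ((map_ne_zero_iff _ hΛ).2 hp0)
  have hlq : (Λ q).leadingCoeff ≠ 0 := Polynomial.leadingCoeff_ne_zero.2 ((map_ne_zero_iff _ hΛ).2 hq0)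
  have h3 : (C ((c : K) ^ (Λ p).natDegree) : MvPolynomial ι K) * ((Λ p).leadingCoeff * (Λ q).leadingCoeff) =
      C (γ * (c : K) ^ (Λ q).natDegree) * ((Λ p).leadingCoeff * (Λ q).leadingCoeff) := by
    rw [map_mul]
    linear_combination h2
  have h4 := C_injective ι K (mul_right_cancel₀ (mul_ne_zero hlp hlq) h3)
  rw [zpow_sub₀ c.ne_zero, zpow_natCast, zpow_natCast, eq_div_iff (pow_ne_zero _ c.ne_zero), h4]

omit [DecidableEq ι] in
theorem exists_lcm {T : Type*} (s : Finset T) (P : T → MvPolynomial ι K) :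
    ∃ L : MvPolynomial ι K, ∀ x, (∀ t ∈ s, P t ∣ x) ↔ L ∣ x := by
  classical
  letI := UniqueFactorizationMonoid.toGCDMonoid (MvPolynomial ι K)
  induction s using Finset.induction_on with
  | empty => exact ⟨1, fun x => by simp⟩
  | insert t s _ ih =>
    obtain ⟨L, hL⟩ := ih
    exact ⟨lcm (P t) L, fun x => by rw [lcm_dvd_iff, Finset.forall_mem_insert, hL]⟩

/-- Projective cocycles in the rational function field are coboundaries up to constants. -/
theorem exists_trivialization [FiniteDimensional k K] (M : (K ≃ₐ[k] K) → (Matrix ι ι K)ˣ)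
    (b : (K ≃ₐ[k] K) → (K ≃ₐ[k] K) → Kˣ) (f : (K ≃ₐ[k] K) → Rat K ι) (hf : ∀ σ, f σ ≠ 0)
    (hb : ∀ σ τ, f (σ * τ) = algebraMap K (Rat K ι) (b σ τ : K) * (f σ * act σ (M σ) (f τ))) :
    ∃ (h : Rat K ι) (c : (K ≃ₐ[k] K) → Kˣ), h ≠ 0 ∧
      ∀ σ, f σ = algebraMap K (Rat K ι) (c σ : K) * (act σ (M σ) h / h) := by
  classical
  obtain ⟨Q, hQ⟩ := IsLocalization.exist_integer_multiples (nonZeroDivisors (MvPolynomial ι K))
    (Finset.univ : Finset (K ≃ₐ[k] K)) f
  have hQ' : ∀ σ, ∃ P, algebraMap (MvPolynomial ι K) (Rat K ι) P = algebraMap _ _ (Q : MvPolynomial ι K) * f σ :=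
    fun σ => by
      obtain ⟨P, hP⟩ := hQ σ (Finset.mem_univ σ)
      exact ⟨P, hP.trans (Algebra.smul_def _ _)⟩
  choose P hP using hQ'
  have hinj := IsFractionRing.injective (MvPolynomial ι K) (Rat K ι)
  have hQ0 : (Q : MvPolynomial ι K) ≠ 0 := nonZeroDivisors.ne_zero Q.2
  have hQ1 : algebraMap (MvPolynomial ι K) (Rat K ι) Q ≠ 0 := (map_ne_zero_iff _ hinj).2 hQ0
  have hP0 : ∀ σ, P σ ≠ 0 := fun σ h0 => by
    have := hP σ
    rw [h0, map_zero] at this
    exact mul_ne_zero hQ1 (hf σ) this.symm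
  obtain ⟨L, hL⟩ := exists_lcm (Finset.univ : Finset (K ≃ₐ[k] K)) P
  have hL' : ∀ x, (∀ τ, P τ ∣ x) ↔ L ∣ x := fun x => by simp [← hL]
  have hL0 : L ≠ 0 := fun h0 => by
    have h1 := (hL' (∏ τ, P τ)).1 fun τ => Finset.dvd_prod_of_mem P (Finset.mem_univ τ)
    rw [h0, zero_dvd_iff] at h1
    exact Finset.prod_ne_zero_iff.2 (fun τ _ => hP0 τ) h1
  have hmul : ∀ a x : MvPolynomial ι K, (∀ τ, P τ * a ∣ x) ↔ L * a ∣ x := by
    intro a x
    constructor
    · intro h
      obtain ⟨y, rfl⟩ := dvd_trans (dvd_mul_left a (P 1)) (h 1)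
      rcases eq_or_ne a 0 with rfl | ha
      · simp
      · rw [mul_comm a y, mul_dvd_mul_iff_right ha, ← hL']
        intro τ
        have := h τ
        rwa [mul_comm a y, mul_dvd_mul_iff_right ha] at this
    · intro h τ
      exact dvd_trans (mul_dvd_mul_right ((hL' L).2 dvd_rfl τ) a) h
  let S := fun σ => subst σ (M σ)
  have hrel : ∀ σ τ, Associated (P σ * S σ (P τ)) (P (σ * τ) * S σ Q) := by
    intro σ τ
    have hu : IsUnit (C (b σ τ : K) : MvPolynomial ι K) := (b σ τ).isUnit.map C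
    suffices P (σ * τ) * S σ Q = C (b σ τ : K) * (P σ * S σ (P τ)) by
      rw [this]; exact (associated_unit_mul_left _ _ hu).symm
    refine hinj ?_
    rw [map_mul, map_mul, map_mul, hP, hP, algebraMap_C,
      show algebraMap (MvPolynomial ι K) (Rat K ι) (S σ Q) = act σ (M σ) (algebraMap _ _ (Q : MvPolynomial ι K)) from
        (act_algebraMap σ (M σ) _).symm,
      show algebraMap (MvPolynomial ι K) (Rat K ι) (S σ (P τ)) = act σ (M σ) (algebraMap _ _ (P τ)) from
        (act_algebraMap σ (M σ) _).symm, hP, map_mul, hb σ τ]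
    ring
  have hkey : ∀ σ, Associated (P σ * S σ L) (L * S σ Q) := by
    intro σ
    refine associated_of_dvd_dvd ?_ ?_
    · have h1 : ∀ τ, P σ * S σ (P τ) ∣ L * S σ Q := fun τ =>
        (hrel σ τ).dvd.trans (((hmul (S σ Q) _).2 dvd_rfl) (σ * τ))
      obtain ⟨y, hy⟩ := dvd_trans (dvd_mul_right (P σ) _) (h1 σ)
      rw [hy, mul_dvd_mul_iff_left (hP0 σ), ← (S σ).apply_symm_apply y, map_dvd_iff, ← hL']
      intro τ
      rw [← map_dvd_iff (S σ), (S σ).apply_symm_apply, ← mul_dvd_mul_iff_left (hP0 σ), ← hy]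
      exact h1 τ
    · rw [← hmul]
      intro τ
      have h2 : P σ * S σ (P (σ⁻¹ * τ)) ∣ P σ * S σ L :=
        mul_dvd_mul_left _ ((map_dvd_iff (S σ)).2 ((hL' L).2 dvd_rfl _))
      have h3 := (hrel σ (σ⁻¹ * τ)).symm.dvd.trans h2
      rwa [mul_inv_cancel_left] at h3
  have hc : ∀ σ, ∃ c : Kˣ, P σ * S σ L = C (c : K) * (L * S σ Q) := fun σ => by
    obtain ⟨u, hu⟩ := (hkey σ).symm
    obtain ⟨r, hr, hru⟩ := isUnit_iff_eq_C_of_isReduced.1 u.isUnit
    exact ⟨hr.unit, by rw [IsUnit.unit_spec, ← hu, hru]; ring⟩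
  choose c hc using hc
  refine ⟨algebraMap (MvPolynomial ι K) (Rat K ι) Q / algebraMap _ _ L, c,
    div_ne_zero hQ1 ((map_ne_zero_iff _ hinj).2 hL0), fun σ => ?_⟩
  have h1 := congrArg (algebraMap (MvPolynomial ι K) (Rat K ι)) (hc σ)
  rw [map_mul, map_mul, map_mul, hP, algebraMap_C] at h1
  have hS : ∀ x, act σ (M σ) (algebraMap (MvPolynomial ι K) (Rat K ι) x) = algebraMap _ _ (S σ x) :=
    fun x => act_algebraMap σ (M σ) x
  rw [map_div₀, hS, hS, div_div_div_eq]
  have hL1 : algebraMap (MvPolynomial ι K) (Rat K ι) L ≠ 0 := (map_ne_zero_iff _ hinj).2 hL0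
  have hSL : algebraMap (MvPolynomial ι K) (Rat K ι) (S σ L) ≠ 0 :=
    (map_ne_zero_iff _ hinj).2 ((map_ne_zero_iff _ (S σ).injective).2 hL0)
  field_simp
  linear_combination h1

variable {A : Type u} [Ring A] [Algebra k A]

/-- The compatibility of the twisted automorphisms. -/
theorem act_act_rep (P : ProjRep k K A ι) (σ τ : K ≃ₐ[k] K) (x : Rat K ι) :
    act σ (P.M σ) (act τ (P.M τ) x) =
      act (σ * τ) (P.M (σ * τ)) (act (1 : K ≃ₐ[k] K) (dil (Units.map ((σ * τ)⁻¹ : K ≃ₐ[k] K).toMonoidHom (P.a σ τ))) x) := by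
  set c := P.a σ τ
  have h1 : (P.M σ : Matrix ι ι K) * (P.M τ : Matrix ι ι K).map σ =
      ((Units.map (Matrix.scalar ι).toMonoidHom c * P.M (σ * τ) : (Matrix ι ι K)ˣ) : Matrix ι ι K) := by
    rw [P.cocycle, Units.val_mul]
    exact (Matrix.smul_eq_diagonal_mul _ _)
  rw [act_act σ τ _ _ _ h1, act_act (σ * τ) 1 _ _ (Units.map (Matrix.scalar ι).toMonoidHom c * P.M (σ * τ)) ?_, mul_one]
  have h2 : ((dil (Units.map ((σ * τ)⁻¹ : K ≃ₐ[k] K).toMonoidHom c) : (Matrix ι ι K)ˣ) : Matrix ι ι K).map (σ * τ : K ≃ₐ[k] K) =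
      ((c : K) • 1 : Matrix ι ι K) := by
    rw [dil_coe, map_smul_aut, map_one_aut]
    congr 1
    exact (σ * τ).apply_symm_apply _
  rw [h2, mul_smul_comm, mul_one, Units.val_mul]
  exact (Matrix.smul_eq_diagonal_mul _ _)

variable {B : Type u} [Ring B] [Algebra k B]

theorem scalar_of_commute {κ : Type} [Fintype κ] [DecidableEq κ] [Nonempty κ] (P' : ProjRep k K B κ)
    {x : Matrix κ κ (Rat K ι)}
    (hx : ∀ b, x * (P'.ψ b).map (algebraMap K (Rat K ι)) = (P'.ψ b).map (algebraMap K (Rat K ι)) * x) :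
    ∃ c : Rat K ι, x = c • 1 := by
  have hall : ∀ Y : Matrix κ κ K, x * Y.map (algebraMap K (Rat K ι)) = Y.map (algebraMap K (Rat K ι)) * x := by
    intro Y
    induction (P'.span.symm ▸ Submodule.mem_top : Y ∈ Submodule.span K (Set.range P'.ψ)) using
        Submodule.span_induction with
    | mem Y hY => obtain ⟨b, rfl⟩ := hY; exact hx b
    | zero => simp
    | add Y Z _ _ hY hZ => rw [Matrix.map_add _ (map_add _), mul_add, add_mul, hY, hZ]
    | smul c Y _ hY =>
      have e : (c • Y).map (algebraMap K (Rat K ι)) = algebraMap K (Rat K ι) c • Y.map (algebraMap K (Rat K ι)) := by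
        ext i j; simp
      rw [e, mul_smul_comm, smul_mul_assoc, hY]
  have hc : x ∈ Subalgebra.center (Rat K ι) (Matrix κ κ (Rat K ι)) := by
    rw [Subalgebra.mem_center_iff]
    intro Y
    rw [Matrix.matrix_eq_sum_single Y, Finset.sum_mul, Finset.mul_sum]
    refine Finset.sum_congr rfl fun i _ => ?_
    rw [Finset.sum_mul, Finset.mul_sum]
    refine Finset.sum_congr rfl fun j _ => ?_
    rw [show Matrix.single i j (Y i j) = Y i j • (Matrix.single i j (1 : K)).map (algebraMap K (Rat K ι)) by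
      rw [Matrix.map_single _ _ _ (algebraMap K (Rat K ι)), map_one, Matrix.smul_single, smul_eq_mul, mul_one],
      smul_mul_assoc, mul_smul_comm, hall]
  rw [Algebra.IsCentral.center_eq_bot, Algebra.mem_bot] at hc
  obtain ⟨c, rfl⟩ := hc
  exact ⟨c, Algebra.algebraMap_eq_smul_one c⟩

/-- The entrywise action on matrices. -/
abbrev actMat {κ : Type} (σ : K ≃ₐ[k] K) (M : (Matrix ι ι K)ˣ) (X : Matrix κ κ (Rat K ι)) :
    Matrix κ κ (Rat K ι) := X.map (act σ M)

/-- **Amitsur**: algebras split by an invariant subfield are powers of `A`. -/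
theorem exists_beq_tpow_of_splits [Algebra.IsCentral k A] [IsSimpleRing A] [FiniteDimensional k A]
    [Algebra.IsCentral k B] [IsSimpleRing B] [FiniteDimensional k B] [FiniteDimensional k K] [IsGalois k K]
    [Nonempty ι] (P : ProjRep k K A ι) {κ : Type} [Fintype κ] [DecidableEq κ] [Nonempty κ] (P' : ProjRep k K B κ)
    (L : Type u) [Field L] [Algebra k L] (j : L →ₐ[k] Rat K ι)
    (hinv : ∀ σ x, act σ (P.M σ) (j x) = j x)
    (hdil : ∀ (c : Kˣ) x, act (1 : K ≃ₐ[k] K) (dil c) (j x) = j x)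
    (hB : Curves.Splits k B L) :
    ∃ (i p q : ℕ), p ≠ 0 ∧ q ≠ 0 ∧
      Nonempty (Matrix (Fin p) (Fin p) B ≃ₐ[k] Matrix (Fin q) (Fin q) (CSAGal.tpow k A i)) := by
  classical
  obtain ⟨r, hr, ⟨φ⟩⟩ := hB
  have hr' : r = Fintype.card κ := by
    have h := φ.toLinearEquiv.finrank_eq
    rw [Module.finrank_baseChange, P'.dim, Module.finrank_matrix, Module.finrank_self, Fintype.card_fin, mul_one] at h
    exact (Nat.mul_self_inj.1 h).symm
  let e : Fin r ≃ κ := (finCongr hr').trans (Fintype.equivFin κ).symm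
  let φ₀ : B →ₐ[k] Matrix κ κ L :=
    ((Matrix.reindexAlgEquiv k L e).toAlgHom.comp (φ.toAlgHom.restrictScalars k)).comp
      Algebra.TensorProduct.includeRight
  let g₁ : B →ₐ[k] Matrix κ κ (Rat K ι) := (j.mapMatrix).comp φ₀
  let g₂ : B →ₐ[k] Matrix κ κ (Rat K ι) :=
    ((IsScalarTower.toAlgHom k K (Rat K ι)).mapMatrix).comp P'.ψ
  have hg₁ : ∀ (σ : K ≃ₐ[k] K) (M : (Matrix ι ι K)ˣ), (∀ x, act σ M (j x) = j x) →
      ∀ b, actMat σ M (g₁ b) = g₁ b := fun σ M hM b => by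
    ext x y; exact hM _
  haveI : IsSimpleRing (Rat K ι ⊗[k] B) := CSA.isSimpleRing_baseChange k B _
  let G₁ : Rat K ι ⊗[k] B →ₐ[Rat K ι] Matrix κ κ (Rat K ι) :=
    Algebra.TensorProduct.lift (Algebra.ofId _ _) g₁ fun r b => Algebra.commutes r _
  let G₂ : Rat K ι ⊗[k] B →ₐ[Rat K ι] Matrix κ κ (Rat K ι) :=
    Algebra.TensorProduct.lift (Algebra.ofId _ _) g₂ fun r b => Algebra.commutes r _
  obtain ⟨T₀, hT₀⟩ := Groth.L11.CSA.skolem_noether (Rat K ι) (Matrix κ κ (Rat K ι)) G₁ G₂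
  have hT₀' : ∀ b, g₁ b * (T₀ : Matrix κ κ (Rat K ι)) = (T₀ : Matrix κ κ (Rat K ι)) * g₂ b := fun b => by
    have h := hT₀ ((1 : Rat K ι) ⊗ₜ[k] b)
    simp only [G₁, G₂, Algebra.TensorProduct.lift_tmul, map_one, one_mul] at h
    rw [h, mul_assoc, Units.inv_mul, mul_one]
  obtain ⟨u, v, huv⟩ : ∃ u v, (T₀ : Matrix κ κ (Rat K ι)) u v ≠ 0 := by
    by_contra hc
    push Not at hc
    exact T₀.ne_zero (Matrix.ext fun u v => hc u v)
  -- normalised comparison matrix
  let T : (Matrix κ κ (Rat K ι))ˣ := (Units.mk0 _ huv)⁻¹ • T₀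
  have hTuv : (T : Matrix κ κ (Rat K ι)) u v = 1 := by
    show ((Units.mk0 _ huv)⁻¹ : (Rat K ι)ˣ) • (T₀ : Matrix κ κ (Rat K ι)) u v = 1
    rw [Units.smul_def, Units.val_inv_eq_inv_val, Units.val_mk0, smul_eq_mul, inv_mul_cancel₀ huv]
  have hT : ∀ b, g₁ b * (T : Matrix κ κ (Rat K ι)) = (T : Matrix κ κ (Rat K ι)) * g₂ b := fun b => by
    show g₁ b * ((Units.mk0 _ huv)⁻¹ • (T₀ : Matrix κ κ (Rat K ι))) = ((Units.mk0 _ huv)⁻¹ • (T₀ : Matrix κ κ (Rat K ι))) * g₂ b
    rw [mul_smul_comm, smul_mul_assoc, hT₀']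
  have hmap : ∀ (σ : K ≃ₐ[k] K) (M : (Matrix ι ι K)ˣ) (X Y : Matrix κ κ (Rat K ι)),
      actMat σ M (X * Y) = actMat σ M X * actMat σ M Y := fun σ M X Y =>
    Matrix.map_mul (f := (act σ M : Rat K ι →+* Rat K ι))
  have hmapK : ∀ (σ : K ≃ₐ[k] K) (M : (Matrix ι ι K)ˣ) (X : Matrix κ κ K),
      actMat σ M (X.map (algebraMap K (Rat K ι))) = (X.map σ).map (algebraMap K (Rat K ι)) := fun σ M X => by
    ext a b; exact act_K σ M _
  have hmapu : ∀ (σ : K ≃ₐ[k] K) (M : (Matrix ι ι K)ˣ) (X : (Matrix κ κ (Rat K ι))ˣ),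
      IsUnit (actMat σ M (X : Matrix κ κ (Rat K ι))) := fun σ M X =>
    IsUnit.of_mul_eq_one (actMat σ M (↑X⁻¹ : Matrix κ κ (Rat K ι))) (by
      rw [← hmap, Units.mul_inv]
      exact Matrix.map_one _ (map_zero _) (map_one _))
  -- invariance under dilations
  have hTdil : ∀ c : Kˣ, actMat (1 : K ≃ₐ[k] K) (dil c) (T : Matrix κ κ (Rat K ι)) = T := by
    intro c
    set T' := actMat (1 : K ≃ₐ[k] K) (dil c) (T : Matrix κ κ (Rat K ι))
    have hg2 : ∀ b, actMat (1 : K ≃ₐ[k] K) (dil c) (g₂ b) = g₂ b := fun b => by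
      show actMat _ _ ((P'.ψ b).map (algebraMap K (Rat K ι))) = _
      rw [hmapK]
      rfl
    have h1 : ∀ b, g₁ b * T' = T' * g₂ b := fun b => by
      have := congrArg (actMat (1 : K ≃ₐ[k] K) (dil c)) (hT b)
      rwa [hmap, hmap, hg2, hg₁ _ _ (hdil c)] at this
    obtain ⟨lam, hlam⟩ := scalar_of_commute (ι := ι) P' (x := (↑T⁻¹ : Matrix κ κ (Rat K ι)) * T') fun b => by
      show _ * g₂ b = g₂ b * _
      rw [mul_assoc, ← h1, ← mul_assoc, ← mul_assoc]
      congr 1
      rw [Units.inv_mul_eq_iff_eq_mul, ← mul_assoc, ← hT, mul_assoc, Units.mul_inv, mul_one]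
    have hT' : T' = lam • (T : Matrix κ κ (Rat K ι)) := by
      have := congrArg ((T : Matrix κ κ (Rat K ι)) * ·) hlam
      simpa [mul_smul_comm] using this
    have h2 := congrFun (congrFun hT' u) v
    simp only [T', actMat, Matrix.map_apply, Matrix.smul_apply, hTuv, map_one, smul_eq_mul, mul_one] at h2
    rw [hT', ← h2, one_smul]
  -- the scalars `f σ`
  let N : (K ≃ₐ[k] K) → Matrix κ κ (Rat K ι) := fun σ => (P'.M σ : Matrix κ κ K).map (algebraMap K (Rat K ι))
  have hNu : ∀ σ, IsUnit (N σ) := fun σ => (P'.M σ).isUnit.map (algebraMap K (Rat K ι)).mapMatrix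
  have hNrel : ∀ σ b, g₂ b * N σ = N σ * actMat σ (P.M σ) (g₂ b) := fun σ b => by
    show (P'.ψ b).map (algebraMap K (Rat K ι)) * _ = _ * actMat σ (P.M σ) ((P'.ψ b).map (algebraMap K (Rat K ι)))
    rw [hmapK, ← Matrix.map_mul, ← Matrix.map_mul, P'.rel]
  have key : ∀ σ, ∃ f : Rat K ι, f ≠ 0 ∧
      actMat σ (P.M σ) (T : Matrix κ κ (Rat K ι)) = f • ((T : Matrix κ κ (Rat K ι)) * N σ) := by
    intro σ
    obtain ⟨Ni, hNi⟩ := hNu σ
    set y := (↑T⁻¹ : Matrix κ κ (Rat K ι)) * actMat σ (P.M σ) (T : Matrix κ κ (Rat K ι)) * (↑Ni⁻¹ : Matrix κ κ (Rat K ι))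
    have h1 : ∀ b, g₁ b * actMat σ (P.M σ) (T : Matrix κ κ (Rat K ι)) =
        actMat σ (P.M σ) (T : Matrix κ κ (Rat K ι)) * actMat σ (P.M σ) (g₂ b) := fun b => by
      have := congrArg (actMat σ (P.M σ)) (hT b)
      rwa [hmap, hmap, hg₁ _ _ (hinv σ)] at this
    obtain ⟨f, hf⟩ := scalar_of_commute (ι := ι) P' (x := y) fun b => by
      show y * g₂ b = g₂ b * y
      have h2 : (↑Ni⁻¹ : Matrix κ κ (Rat K ι)) * g₂ b =
          actMat σ (P.M σ) (g₂ b) * (↑Ni⁻¹ : Matrix κ κ (Rat K ι)) := by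
        rw [Units.inv_mul_eq_iff_eq_mul, hNi, ← mul_assoc, ← hNrel, ← hNi, mul_assoc, Units.mul_inv, mul_one]
      simp only [y, mul_assoc, h2]
      rw [← mul_assoc (actMat σ (P.M σ) (T : Matrix κ κ (Rat K ι))), ← h1]
      simp only [← mul_assoc]
      congr 2
      rw [Units.inv_mul_eq_iff_eq_mul, ← mul_assoc, ← hT, mul_assoc, Units.mul_inv, mul_one]
    have hfeq : actMat σ (P.M σ) (T : Matrix κ κ (Rat K ι)) = f • ((T : Matrix κ κ (Rat K ι)) * N σ) := by
      have := congrArg (fun w => (T : Matrix κ κ (Rat K ι)) * w * (Ni : Matrix κ κ (Rat K ι))) hf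
      simp only [y, mul_assoc, Units.inv_mul, mul_one, Units.mul_inv_cancel_left] at this
      rw [this, hNi]
      simp [mul_smul_comm]
    refine ⟨f, fun h0 => ?_, hfeq⟩
    rw [h0, zero_smul] at hfeq
    exact (hmapu σ (P.M σ) T).ne_zero hfeq
  choose f hf0 hf using key
  have hrel : ∀ σ τ, f (σ * τ) = algebraMap K (Rat K ι) (P'.a σ τ : K) * (f σ * act σ (P.M σ) (f τ)) := by
    intro σ τ
    have hl : actMat σ (P.M σ) (actMat τ (P.M τ) (T : Matrix κ κ (Rat K ι))) =
        actMat (σ * τ) (P.M (σ * τ)) (T : Matrix κ κ (Rat K ι)) := by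
      ext a b
      show act σ (P.M σ) (act τ (P.M τ) ((T : Matrix κ κ (Rat K ι)) a b)) = _
      rw [act_act_rep]
      exact congrArg (act (σ * τ) (P.M (σ * τ))) (congrFun (congrFun (hTdil _) a) b)
    have hsmul : ∀ (x : Rat K ι) (X : Matrix κ κ (Rat K ι)),
        actMat σ (P.M σ) (x • X) = act σ (P.M σ) x • actMat σ (P.M σ) X := fun x X => by
      ext a b; exact map_mul (act σ (P.M σ)) x _
    rw [hf (σ * τ), hf τ, hsmul, hmap, hf σ, hmapK, smul_mul_assoc, smul_smul, mul_assoc, ← Matrix.map_mul,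
      P'.cocycle,
      show ((P'.a σ τ : K) • (P'.M (σ * τ) : Matrix κ κ K)).map (algebraMap K (Rat K ι)) =
        algebraMap K (Rat K ι) (P'.a σ τ : K) • N (σ * τ) by ext a b; simp [N],
      mul_smul_comm, smul_smul] at hl
    have h3 : (f (σ * τ) - act σ (P.M σ) (f τ) * f σ * algebraMap K (Rat K ι) (P'.a σ τ : K)) •
        ((T : Matrix κ κ (Rat K ι)) * N (σ * τ)) = 0 := by rw [sub_smul, hl, sub_self]
    rcases smul_eq_zero.1 h3 with h4 | h4
    · linear_combination h4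
    · exact absurd h4 (T.isUnit.mul (hNu _)).ne_zero
  obtain ⟨h, c, hh, hfc⟩ := exists_trivialization P.M P'.a f hf0 hrel
  obtain ⟨z, hz⟩ := exists_weight (k := k) h hh
  refine exists_beq_tpow P P' (-z) (fun σ => (c σ)⁻¹) fun σ τ => ?_
  -- the constant comparing the two iterated twists of `h`
  set d : Kˣ := Units.map ((σ * τ)⁻¹ : K ≃ₐ[k] K).toMonoidHom (P.a σ τ) with hd
  have hA1 : act σ (P.M σ) h ≠ 0 := (map_ne_zero_iff _ (act σ (P.M σ)).injective).2 hh
  have hγ : algebraMap K (Rat K ι) (c (σ * τ) : K) * act (σ * τ) (P.M (σ * τ)) h =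
      algebraMap K (Rat K ι) ((P'.a σ τ : K) * (c σ : K) * σ (c τ : K)) *
        act (σ * τ) (P.M (σ * τ)) (act (1 : K ≃ₐ[k] K) (dil d) h) := by
    have h5 := hrel σ τ
    rw [hfc (σ * τ), hfc σ, hfc τ, map_mul (act σ (P.M σ)), map_div₀ (act σ (P.M σ)), act_K, act_act_rep, ← hd] at h5
    rw [map_mul, map_mul]
    field_simp at h5
    linear_combination h5
  set C₁ : K := (c (σ * τ) : K) / ((P'.a σ τ : K) * (c σ : K) * σ (c τ : K)) with hC₁
  have hne : (P'.a σ τ : K) * (c σ : K) * σ (c τ : K) ≠ 0 := by simp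
  have h6 : act (1 : K ≃ₐ[k] K) (dil d) h = algebraMap K (Rat K ι) ((σ * τ)⁻¹ C₁) * h := by
    refine (act (σ * τ) (P.M (σ * τ))).injective ?_
    rw [map_mul, act_K, show (σ * τ) ((σ * τ)⁻¹ C₁) = C₁ from (σ * τ).apply_symm_apply _, hC₁, map_div₀,
      div_mul_eq_mul_div, eq_div_iff ((map_ne_zero_iff _ (algebraMap K (Rat K ι)).injective).2 hne), hγ, mul_comm]
  have h7 : C₁ = (P.a σ τ : K) ^ z := by
    have := congrArg (σ * τ : K ≃ₐ[k] K) (hz d _ h6)
    rw [show (σ * τ) ((σ * τ)⁻¹ C₁) = C₁ from (σ * τ).apply_symm_apply _, map_zpow₀] at this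
    rw [this]
    congr 1
    exact (σ * τ).apply_symm_apply _
  refine Units.ext ?_
  simp only [Units.val_mul, Units.coe_map, MonoidHom.coe_coe, Units.val_inv_eq_inv_val, map_inv₀, inv_inv,
    Units.val_zpow_eq_zpow_val]
  rw [zpow_neg, ← h7, hC₁]
  field_simp

end Groth.L11.Amitsur
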