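import Groth.Agent.L11.Amitsur.Core
import Groth.Agent.L11.SBStable.Main
import Groth.Agent.L21.CSA.SepSubfield

/-!
# The function field of a Severi–Brauer variety

The generic line gives a point of the Severi–Brauer variety fixed by the twisted automorphisms and
lying over the generic point, so the function field embeds into the invariants.
-/

set_option autoImplicit false
set_option linter.style.haveILetI false
set_option backward.isDefEq.respectTransparency false
set_option backward.isDefEq.respectTransparency.types false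

noncomputable section

universe u

open CategoryTheory CategoryTheory.Limits AlgebraicGeometry
open scoped TensorProduct Matrix

namespace Groth.L11.Amitsur

theorem exists_common_galois_splitting (k : Type u) [Field k] (A B : Type u) [Ring A] [Algebra k A]
    [Algebra.IsCentral k A] [IsSimpleRing A] [FiniteDimensional k A] [Ring B] [Algebra k B]
    [Algebra.IsCentral k B] [IsSimpleRing B] [FiniteDimensional k B] :
    ∃ (K : Type u) (_ : Field K) (_ : Algebra k K), FiniteDimensional k K ∧ IsGalois k K ∧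
      (∃ n : ℕ, n ≠ 0 ∧ Nonempty (K ⊗[k] A ≃ₐ[K] Matrix (Fin n) (Fin n) K)) ∧
      ∃ n : ℕ, n ≠ 0 ∧ Nonempty (K ⊗[k] B ≃ₐ[K] Matrix (Fin n) (Fin n) K) := by
  obtain ⟨k₁, _, _, hfin₁, hsep₁, h₁⟩ := Groth.L21.CSA.exists_separable_splitting k A
  haveI : IsSimpleRing (k₁ ⊗[k] B) := CSA.isSimpleRing_baseChange k B k₁
  haveI : Algebra.IsCentral k₁ (k₁ ⊗[k] B) := Groth.L11.CSA.isCentral_baseChange k B k₁
  obtain ⟨k₂, _, _, hfin₂, hsep₂, m, hm, ⟨e₂⟩⟩ := Groth.L21.CSA.exists_separable_splitting k₁ (k₁ ⊗[k] B)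
  letI : Algebra k k₂ := ((algebraMap k₁ k₂).comp (algebraMap k k₁)).toAlgebra
  haveI : IsScalarTower k k₁ k₂ := IsScalarTower.of_algebraMap_eq' rfl
  haveI : FiniteDimensional k k₂ := Module.Finite.trans k₁ k₂
  haveI : Algebra.IsSeparable k k₂ := Algebra.IsSeparable.trans k k₁ k₂
  let K := IntermediateField.normalClosure k k₂ (AlgebraicClosure k₂)
  haveI : Algebra.IsSeparable k K := by
    rw [← le_separableClosure_iff]
    refine normalClosure_le_iff.mpr fun f => ?_
    rw [le_separableClosure_iff]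
    exact AlgEquiv.Algebra.isSeparable (AlgEquiv.ofInjectiveField f)
  exact ⟨K, inferInstance, inferInstance, inferInstance, isGalois_iff.mpr ⟨inferInstance, inferInstance⟩,
    Groth.L21.CSA.splits_trans k A k₂ _ (Groth.L21.CSA.splits_trans k A k₁ k₂ h₁),
    Groth.L21.CSA.splits_trans k B k₂ _
      ⟨m, hm, ⟨(Groth.L21.CSA.cancelEquiv k B k₁ k₂).trans e₂⟩⟩⟩

variable {k : Type u} [Field k] {K : Type u} [Field K] [Algebra k K]

section Act

variable {ι : Type} [Fintype ι] [DecidableEq ι]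

/-- The twisted automorphism as a map of algebras. -/
def actHom (σ : K ≃ₐ[k] K) (M : (Matrix ι ι K)ˣ) : Rat K ι →ₐ[k] Rat K ι where
  toRingHom := (act σ M).toRingHom
  commutes' c := by
    show act σ M (algebraMap k (Rat K ι) c) = _
    rw [IsScalarTower.algebraMap_apply k K (Rat K ι), act_K, AlgEquiv.commutes]

theorem actHom_apply (σ : K ≃ₐ[k] K) (M : (Matrix ι ι K)ˣ) (x : Rat K ι) : actHom σ M x = act σ M x := rfl

end Act

theorem lineMat_conj {R : Type u} [CommRing R] {n : ℕ} (N : (Matrix (Fin n) (Fin n) R)ˣ) (v : Fin n → R)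
    (Z Z' : Matrix (Fin n) (Fin n) R) (h : (N : Matrix (Fin n) (Fin n) R) * Z' = Z * (N : Matrix (Fin n) (Fin n) R)) :
    Z' ∈ SBAut.lineMat R (v ᵥ* (N : Matrix (Fin n) (Fin n) R)) ↔ Z ∈ SBAut.lineMat R v := by
  constructor
  · rintro ⟨a, ha⟩
    refine ⟨(N : Matrix (Fin n) (Fin n) R) *ᵥ a, N.isUnit.mul_left_injective ?_⟩
    show Matrix.vecMulVec _ v * (N : Matrix (Fin n) (Fin n) R) = Z * (N : Matrix (Fin n) (Fin n) R)
    rw [← h, ← ha, Matrix.vecMulVec_mul]
    exact (Matrix.mul_vecMulVec _ _ _).symm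
  · rintro ⟨a, ha⟩
    refine ⟨(↑N⁻¹ : Matrix (Fin n) (Fin n) R) *ᵥ a, ?_⟩
    show Matrix.vecMulVec _ (v ᵥ* (N : Matrix (Fin n) (Fin n) R)) = Z'
    rw [← Matrix.vecMulVec_mul, ← Matrix.mul_vecMulVec, show Matrix.vecMulVec a v = Z from ha, mul_assoc,
      ← h, Units.inv_mul_cancel_left]

section Point

variable {A : Type u} [Ring A] [Algebra k A] {d : ℕ}
  (e : K ⊗[k] A ≃ₐ[K] Matrix (Fin (d + 1)) (Fin (d + 1)) K)

theorem unimod_gen : SBAut.Unimod (gen K (Fin (d + 1))) :=
  ⟨0, isUnit_iff_ne_zero.2 ((map_ne_zero_iff _ (IsFractionRing.injective _ _)).2 (MvPolynomial.X_ne_zero 0))⟩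

variable (k K d) in
/-- Constants in the rational function field. -/
abbrev constHom : K →ₐ[k] Rat K (Fin (d + 1)) := IsScalarTower.toAlgHom k K _

/-- The generic line. -/
abbrev genLine : BrSev.SBSet k A ((d + 1) * (d + 1) - (d + 1)) (Rat K (Fin (d + 1))) :=
  SBAut.lineObj e (constHom k K d) (gen K (Fin (d + 1))) unimod_gen

theorem sbMap_genLine (σ : K ≃ₐ[k] K) (M : (Matrix (Fin (d + 1)) (Fin (d + 1)) K)ˣ)
    (hM : ∀ a, e ((1 : K) ⊗ₜ[k] a) * (M : Matrix (Fin (d + 1)) (Fin (d + 1)) K) =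
      (M : Matrix (Fin (d + 1)) (Fin (d + 1)) K) * (e ((1 : K) ⊗ₜ[k] a)).map σ) :
    SBAut.sbMap (actHom σ M) (genLine e) = genLine e := by
  rw [genLine, SBAut.sbMap_lineObj']
  refine SBAut.sbExt (Submodule.ext fun x => ?_)
  rw [SBAut.mem_lineObj, SBAut.mem_lineObj]
  let N : (Matrix (Fin (d + 1)) (Fin (d + 1)) (Rat K (Fin (d + 1))))ˣ :=
    Units.map ((algebraMap K (Rat K (Fin (d + 1)))).mapMatrix : _ →+* _).toMonoidHom M
  have hgen : (actHom σ M) ∘ gen K (Fin (d + 1)) =
      gen K (Fin (d + 1)) ᵥ* (N : Matrix (Fin (d + 1)) (Fin (d + 1)) (Rat K (Fin (d + 1)))) := by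
    funext j
    show act σ M (gen K (Fin (d + 1)) j) = _
    rw [act_gen, Matrix.vecMul, dotProduct]
    exact Finset.sum_congr rfl fun i _ => mul_comm _ _
  rw [hgen]
  refine lineMat_conj N _ _ _ ?_
  induction x using TensorProduct.induction_on with
  | zero => simp
  | tmul r a =>
    rw [SBAut.toMat_tmul, SBAut.toMat_tmul, mul_smul_comm, smul_mul_assoc]
    congr 1
    have e1 : (e ((1 : K) ⊗ₜ[k] a)).map ((actHom σ M).comp (constHom k K d)) =
        ((e ((1 : K) ⊗ₜ[k] a)).map σ).map (algebraMap K (Rat K (Fin (d + 1)))) := by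
      ext i j
      exact act_K σ M _
    rw [e1]
    show (M : Matrix (Fin (d + 1)) (Fin (d + 1)) K).map (algebraMap K (Rat K (Fin (d + 1)))) * _ =
      (e ((1 : K) ⊗ₜ[k] a)).map (algebraMap K (Rat K (Fin (d + 1)))) *
        (M : Matrix (Fin (d + 1)) (Fin (d + 1)) K).map (algebraMap K (Rat K (Fin (d + 1))))
    rw [← Matrix.map_mul, ← Matrix.map_mul, hM]
  | add x y hx hy => rw [map_add, map_add, mul_add, add_mul, hx, hy]

variable {X : Scheme.{u}} {f : X ⟶ Spec (CommRingCat.of k)}
  (S : BrSev.SBStr k A ((d + 1) * (d + 1) - (d + 1)) f)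

/-- The point given by the generic line. -/
abbrev genPt : BrSev.Pts f (Rat K (Fin (d + 1))) := (S.bij _).symm (genLine e)

theorem map_genPt (σ : K ≃ₐ[k] K) (M : (Matrix (Fin (d + 1)) (Fin (d + 1)) K)ˣ)
    (hM : ∀ a, e ((1 : K) ⊗ₜ[k] a) * (M : Matrix (Fin (d + 1)) (Fin (d + 1)) K) =
      (M : Matrix (Fin (d + 1)) (Fin (d + 1)) K) * (e ((1 : K) ⊗ₜ[k] a)).map σ) :
    BrSev.Pts.map f (actHom σ M) (genPt e S) = genPt e S := by
  apply (S.bij _).injective
  refine (SBAut.sbExt (S.natural _ _ (actHom σ M) _) :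
    S.bij _ (BrSev.Pts.map f (actHom σ M) (genPt e S)) = SBAut.sbMap (actHom σ M) _).trans ?_
  rw [Equiv.apply_symm_apply]
  exact sbMap_genLine e σ M hM

theorem genPt_eq_linePt :
    (genPt e S).1 = SBAut.linePt S e (R := CommRingCat.of (Rat K (Fin (d + 1))))
      (algebraMap K (Rat K (Fin (d + 1)))) (gen K (Fin (d + 1))) unimod_gen ≫ BrSev.proj f K := by
  have key : ∀ (a : Algebra k (Rat K (Fin (d + 1))))
      (σ : @AlgHom k K (Rat K (Fin (d + 1))) _ _ _ _ a)
      (_ : a = SBAut.algVia k (R := CommRingCat.of (Rat K (Fin (d + 1)))) (algebraMap K (Rat K (Fin (d + 1)))))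
      (_ : ∀ c, σ c = algebraMap K (Rat K (Fin (d + 1))) c),
      ((@BrSev.SBStr.bij k _ A _ _ _ _ f S (Rat K (Fin (d + 1))) _ a).symm
        (@SBAut.lineObj k _ A _ _ _ K _ _ e (Rat K (Fin (d + 1))) _ a σ (gen K (Fin (d + 1))) unimod_gen)).1 =
      SBAut.linePt S e (R := CommRingCat.of (Rat K (Fin (d + 1))))
        (algebraMap K (Rat K (Fin (d + 1)))) (gen K (Fin (d + 1))) unimod_gen ≫ BrSev.proj f K := by
    rintro a σ rfl hσ
    letI := SBAut.algVia k (R := CommRingCat.of (Rat K (Fin (d + 1)))) (algebraMap K (Rat K (Fin (d + 1))))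
    rw [SBAut.linePt, pullback.lift_fst,
      show σ = SBAut.homVia k (R := CommRingCat.of (Rat K (Fin (d + 1)))) (algebraMap K (Rat K (Fin (d + 1))))
        from AlgHom.ext hσ]
  exact key _ (constHom k K d)
    (Algebra.algebra_ext _ _ fun c => IsScalarTower.algebraMap_apply k K (Rat K (Fin (d + 1))) c) fun c => rfl

open Groth.L18 in
theorem chartHom_gen_injective (i : Fin (d + 1)) (h : IsUnit (gen K (Fin (d + 1)) i)) :
    Function.Injective (PS.chartHom (algebraMap K (Rat K (Fin (d + 1)))) (gen K (Fin (d + 1))) i h) := by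
  have he : MvPolynomial.eval₂Hom (algebraMap K (Rat K (Fin (d + 1)))) (gen K (Fin (d + 1))) =
      algebraMap (MvPolynomial (Fin (d + 1)) K) (Rat K (Fin (d + 1))) :=
    MvPolynomial.ringHom_ext (fun c => by rw [MvPolynomial.eval₂Hom_C, algebraMap_C])
      fun j => by rw [MvPolynomial.eval₂Hom_X']; rfl
  rw [PS.chartHom, PS.awayEval, RingHom.coe_comp]
  refine Function.Injective.comp ?_ ?_
  · rw [injective_iff_map_eq_zero]
    intro z hz
    obtain ⟨n, a, ha⟩ := IsLocalization.Away.surj (MvPolynomial.X i : MvPolynomial (Fin (d + 1)) K) z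
    have h1 := congrArg (IsLocalization.Away.lift (S := Localization.Away (MvPolynomial.X i : MvPolynomial (Fin (d + 1)) K))
      (MvPolynomial.X i) (PS.isUnit_eval_X (algebraMap K (Rat K (Fin (d + 1)))) (gen K (Fin (d + 1))) h)) ha
    rw [map_mul, hz, zero_mul, IsLocalization.Away.lift_eq, he, eq_comm,
      map_eq_zero_iff _ (IsFractionRing.injective _ _)] at h1
    rw [h1, map_zero] at ha
    exact ((IsLocalization.Away.algebraMap_isUnit _).pow n).mul_left_eq_zero.1 ha
  · intro a b hab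
    exact HomogeneousLocalization.val_injective _ hab

open Groth.L18 in
theorem genPt_apply [IsIntegral X] (q : Spec (CommRingCat.of (Rat K (Fin (d + 1))))) :
    (genPt e S).1 q = genericPoint X := by
  have h0 : IsUnit (gen K (Fin (d + 1)) 0) :=
    isUnit_iff_ne_zero.2 ((map_ne_zero_iff _ (IsFractionRing.injective _ _)).2 (MvPolynomial.X_ne_zero 0))
  have hx : (genPt e S).1 =
      PS.tuplePt (B := CommRingCat.of (Rat K (Fin (d + 1)))) (algebraMap K (Rat K (Fin (d + 1))))
        (gen K (Fin (d + 1))) 0 h0 ≫ SBAut.projTo S e ≫ BrSev.proj f K := by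
    rw [genPt_eq_linePt, ← Category.assoc, SBAut.tuplePt_projTo]
  rw [hx, Scheme.Hom.comp_apply]
  have hη : PS.tuplePt (B := CommRingCat.of (Rat K (Fin (d + 1)))) (algebraMap K (Rat K (Fin (d + 1))))
      (gen K (Fin (d + 1))) 0 h0 q = genericPoint (CohB1.ProjSpace d K) := by
    have hinj := chartHom_gen_injective (K := K) (0 : Fin (d + 1)) h0
    haveI : IsDomain (CommRingCat.of (HomogeneousLocalization.Away (CohB1.polyGrading d K)
        (MvPolynomial.X 0 : MvPolynomial (Fin (d + 1)) K))) := hinj.isDomain _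
    rw [PS.tuplePt, Scheme.Hom.comp_apply, ← genericPoint_eq_of_isOpenImmersion (PS.chart d K (0 : Fin (d + 1)))]
    refine congrArg _ ?_
    rw [genericPoint_eq_bot_of_affine]
    refine PrimeSpectrum.ext ?_
    show Ideal.comap _ q.asIdeal = ⊥
    have hq : q.asIdeal = ⊥ := (Ideal.eq_bot_or_top _).resolve_right q.isPrime.ne_top
    rw [hq]
    exact (Ideal.comap_bot_of_injective _ hinj)
  rw [hη]
  haveI := SBAut.isIso_projTo S e
  haveI : Surjective (Spec.map (CommRingCat.ofHom (algebraMap k K))) :=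
    ⟨fun x => ⟨IsLocalRing.closedPoint K, Subsingleton.elim _ _⟩⟩
  haveI : Surjective (SBAut.projTo S e ≫ BrSev.proj f K) := inferInstance
  have h := (genericPoint_spec (CohB1.ProjSpace d K)).image (SBAut.projTo S e ≫ BrSev.proj f K).continuous
  rw [Set.image_univ, (SBAut.projTo S e ≫ BrSev.proj f K).surjective.range_eq, closure_univ] at h
  exact h.eq (genericPoint_spec X)

end Point

theorem exists_factor {X : Scheme.{u}} {R : CommRingCat.{u}} [IsLocalRing R] (x : Spec R ⟶ X) (η : X)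
    (h : x (IsLocalRing.closedPoint R) = η) : ∃ ρ, Spec.map ρ ≫ X.fromSpecStalk η = x := by
  subst h
  exact ⟨_, Scheme.Spec_stalkClosedPointTo_fromSpecStalk _⟩

section Main

variable {A : Type u} [Ring A] [Algebra k A] [Algebra.IsCentral k A] [IsSimpleRing A]
  {B : Type u} [Ring B] [Algebra k B] [Algebra.IsCentral k B] [IsSimpleRing B] [FiniteDimensional k B]
  {d : ℕ} {X : Scheme.{u}} {f : X ⟶ Spec (CommRingCat.of k)}

/-- Algebras split by the function field are powers of the algebra. -/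
theorem exists_beq_tpow_of_functionField [IsIntegral X]
    (S : BrSev.SBStr k A ((d + 1) * (d + 1) - (d + 1)) f)
    (hA : Module.finrank k A = (d + 1) * (d + 1)) (alg : Algebra k X.functionField)
    (hstr : Spec.map (CommRingCat.ofHom (algebraMap k X.functionField)) = X.fromSpecStalk (genericPoint X) ≫ f)
    (hB : Curves.Splits k B X.functionField) :
    ∃ (i p q : ℕ), p ≠ 0 ∧ q ≠ 0 ∧
      Nonempty (Matrix (Fin p) (Fin p) B ≃ₐ[k] Matrix (Fin q) (Fin q) (CSAGal.tpow k A i)) := by
  haveI : FiniteDimensional k A := Module.finite_of_finrank_pos (by rw [hA]; positivity)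
  obtain ⟨K, _, _, _, _, ⟨r, hr, ⟨e⟩⟩, m, hm, ⟨e'⟩⟩ := exists_common_galois_splitting k A B
  obtain rfl : r = d + 1 := by
    have h := e.toLinearEquiv.finrank_eq
    rw [Module.finrank_baseChange, hA, Module.finrank_matrix, Module.finrank_self, Fintype.card_fin, mul_one] at h
    exact (Nat.mul_self_inj.1 h).symm
  obtain ⟨P, hP⟩ := ProjRep.exists_of_splitting A (Nat.succ_pos d) e
  obtain ⟨P', -⟩ := ProjRep.exists_of_splitting B (Nat.pos_of_ne_zero hm) e'
  haveI : Nonempty (Fin m) := ⟨⟨0, Nat.pos_of_ne_zero hm⟩⟩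
  obtain ⟨ρ, hρ⟩ := exists_factor (R := CommRingCat.of (Rat K (Fin (d + 1)))) (genPt e S).1 (genericPoint X)
    (genPt_apply e S _)
  let j : X.functionField →ₐ[k] Rat K (Fin (d + 1)) :=
    { ρ.hom with
      commutes' := fun c => by
        have h := (genPt e S).2
        rw [← hρ, Category.assoc, ← hstr, ← Spec.map_comp] at h
        exact congrArg (fun g => g.hom c) (Spec.map_injective h) }
  have hfix : ∀ (σ : K ≃ₐ[k] K) (M : (Matrix (Fin (d + 1)) (Fin (d + 1)) K)ˣ),
      (∀ a, e ((1 : K) ⊗ₜ[k] a) * (M : Matrix (Fin (d + 1)) (Fin (d + 1)) K) =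
        (M : Matrix (Fin (d + 1)) (Fin (d + 1)) K) * (e ((1 : K) ⊗ₜ[k] a)).map σ) →
      ∀ z, act σ M (j z) = j z := fun σ M hM z => by
    have h := congrArg Subtype.val (map_genPt e S σ M hM)
    change Spec.map (CommRingCat.ofHom (actHom σ M : Rat K (Fin (d + 1)) →+* Rat K (Fin (d + 1)))) ≫
      (genPt e S).1 = (genPt e S).1 at h
    rw [← hρ, ← Category.assoc, cancel_mono, ← Spec.map_comp] at h
    exact congrArg (fun g => g.hom z) (Spec.map_injective h)
  refine exists_beq_tpow_of_splits P P' X.functionField j (fun σ z => hfix σ (P.M σ) ?_ z)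
    (fun c z => hfix 1 (dil c) ?_ z) hB
  · intro a
    rw [← hP]
    exact P.rel σ a
  · intro a
    rw [dil_coe, mul_smul_comm, mul_one, smul_mul_assoc, one_mul]
    exact congrArg _ (Matrix.map_id _).symm

/-- Powers of the algebra are split by the function field. -/
theorem splits_functionField_of_beq [IsIntegral X]
    (S : BrSev.SBStr k A ((d + 1) * (d + 1) - (d + 1)) f)
    (hA : Module.finrank k A = (d + 1) * (d + 1)) (alg : Algebra k X.functionField)
    (hstr : Spec.map (CommRingCat.ofHom (algebraMap k X.functionField)) = X.fromSpecStalk (genericPoint X) ≫ f)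
    {i p q : ℕ} (hp : p ≠ 0) (hq : q ≠ 0)
    (E : Matrix (Fin p) (Fin p) B ≃ₐ[k] Matrix (Fin q) (Fin q) (CSAGal.tpow k A i)) :
    Curves.Splits k B X.functionField := by
  haveI : FiniteDimensional k A := Module.finite_of_finrank_pos (by rw [hA]; positivity)
  exact Groth.L11.Br.splits_of_beq ⟨p, q, hp, hq, ⟨E⟩⟩ X.functionField
    (Groth.L11.Idx.splits_tpow_of_splits X.functionField
      (Groth.L11.SBStable.splits_of_pts f (Nat.succ_pos d) hA S X.functionField
        ⟨X.fromSpecStalk (genericPoint X), hstr.symm⟩) i)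

end Main

end Groth.L11.Amitsur
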