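import Groth.Agent.L11.Amitsur.Inflate
import Groth.Agent.L11.Amitsur.Scheme
import Mathlib.RingTheory.TensorProduct.Free
import Mathlib.LinearAlgebra.LinearIndependent.Lemmas
import Mathlib.RingTheory.Flat.Basic

/-!
# The invariant field of a projective representation

The rational functions fixed by the twisted automorphisms and by the dilations form a field which
splits the algebra, and splits only the Brauer multiples of it.
-/

set_option autoImplicit false
set_option linter.style.haveILetI false
set_option backward.isDefEq.respectTransparency false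
set_option backward.isDefEq.respectTransparency.types false

noncomputable section

universe u

open scoped TensorProduct Matrix

namespace Groth.L11.Amitsur

variable {k : Type u} [Field k] {K : Type u} [Field K] [Algebra k K] {A : Type u} [Ring A] [Algebra k A]

/-- A dilation past a twisted automorphism. -/
theorem act_dil_comm {ι : Type} [Fintype ι] [DecidableEq ι] (σ : K ≃ₐ[k] K) (M : (Matrix ι ι K)ˣ) (c : Kˣ)
    (x : Rat K ι) :
    act (1 : K ≃ₐ[k] K) (dil c) (act σ M x) =
      act σ M (act (1 : K ≃ₐ[k] K) (dil (Units.map (σ⁻¹ : K ≃ₐ[k] K).toMonoidHom c)) x) := by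
  have h1 : ((dil c : (Matrix ι ι K)ˣ) : Matrix ι ι K) * (M : Matrix ι ι K).map (1 : K ≃ₐ[k] K) =
      ((dil c * M : (Matrix ι ι K)ˣ) : Matrix ι ι K) := by
    rw [Units.val_mul]; congr 1
  have h2 : (M : Matrix ι ι K) *
      ((dil (Units.map (σ⁻¹ : K ≃ₐ[k] K).toMonoidHom c) : (Matrix ι ι K)ˣ) : Matrix ι ι K).map σ =
        ((dil c * M : (Matrix ι ι K)ˣ) : Matrix ι ι K) := by
    rw [Units.val_mul, dil_coe, dil_coe, map_smul_aut, map_one_aut, mul_smul_comm, mul_one, smul_mul_assoc, one_mul]
    congr 1
    exact σ.apply_symm_apply _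
  rw [act_act _ _ _ _ _ h1, act_act _ _ _ _ _ h2, one_mul, mul_one]

section

variable {ι : Type} [Fintype ι] [DecidableEq ι]

/-- The invariants. -/
def invField (P : ProjRep k K A ι) : IntermediateField k (Rat K ι) where
  carrier := {x | (∀ σ, act σ (P.M σ) x = x) ∧ ∀ c : Kˣ, act (1 : K ≃ₐ[k] K) (dil c) x = x}
  mul_mem' {x y} hx hy := ⟨fun σ => by rw [map_mul, hx.1, hy.1], fun c => by rw [map_mul, hx.2, hy.2]⟩
  one_mem' := ⟨fun σ => map_one _, fun c => map_one _⟩
  add_mem' {x y} hx hy := ⟨fun σ => by rw [map_add, hx.1, hy.1], fun c => by rw [map_add, hx.2, hy.2]⟩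
  zero_mem' := ⟨fun σ => map_zero _, fun c => map_zero _⟩
  algebraMap_mem' r := ⟨fun σ => (actHom σ (P.M σ)).commutes r, fun c => (actHom (1 : K ≃ₐ[k] K) (dil c)).commutes r⟩
  inv_mem' x hx := ⟨fun σ => by rw [map_inv₀, hx.1], fun c => by rw [map_inv₀, hx.2]⟩

theorem mem_invField {P : ProjRep k K A ι} {x : Rat K ι} :
    x ∈ invField P ↔ (∀ σ, act σ (P.M σ) x = x) ∧ ∀ c : Kˣ, act (1 : K ≃ₐ[k] K) (dil c) x = x := Iff.rfl

/-- Averages of dilation invariant functions are invariant. -/
theorem sum_act_mem_invField [FiniteDimensional k K] (P : ProjRep k K A ι) (y : Rat K ι)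
    (hy : ∀ c : Kˣ, act (1 : K ≃ₐ[k] K) (dil c) y = y) :
    ∑ σ : K ≃ₐ[k] K, act σ (P.M σ) y ∈ invField P := by
  refine mem_invField.2 ⟨fun τ => ?_, fun c => ?_⟩
  · rw [map_sum]
    simp only [act_act_rep, hy]
    exact Equiv.sum_comp (Equiv.mulLeft τ) fun σ => act σ (P.M σ) y
  · rw [map_sum]
    simp only [act_dil_comm, hy]

end

/-- A central simple algebra with a small left ideal is split. -/
theorem exists_matrix_equiv_of_ideal {F : Type u} [Field F] {D : Type u} [Ring D] [Algebra F D] [IsSimpleRing D]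
    [FiniteDimensional F D] {n : ℕ} (hn : 0 < n) (hD : Module.finrank F D = n * n) (V : Submodule F D)
    (hV : ∀ a x : D, x ∈ V → a * x ∈ V) (h0 : V ≠ ⊥) (hle : Module.finrank F V ≤ n) :
    Nonempty (D ≃ₐ[F] Matrix (Fin n) (Fin n) F) := by
  let φ : D →ₐ[F] Module.End F V :=
    AlgHom.ofLinearMap
      { toFun := fun a => (LinearMap.mulLeft F a).restrict (fun y hy => hV a y hy)
        map_add' := fun a b => LinearMap.ext fun y => Subtype.ext (add_mul a b (y : D))
        map_smul' := fun r a => LinearMap.ext fun y => Subtype.ext (smul_mul_assoc r a (y : D)) }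
      (LinearMap.ext fun y => Subtype.ext (one_mul (y : D)))
      (fun a b => LinearMap.ext fun y => Subtype.ext (mul_assoc a b (y : D)))
  haveI : Nontrivial V := Submodule.nontrivial_iff_ne_bot.2 h0
  have hinj : Function.Injective φ := RingHom.injective φ.toRingHom
  have h1 := LinearMap.finrank_le_finrank_of_injective (f := φ.toLinearMap) hinj
  rw [Module.finrank_linearMap, hD] at h1
  have hVn : Module.finrank F V = n := le_antisymm hle (Nat.mul_self_le_mul_self_iff.1 h1)
  let ψ : D →ₐ[F] Matrix (Fin n) (Fin n) F :=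
    (algEquivMatrix ((Module.finBasis F V).reindex (finCongr hVn))).toAlgHom.comp φ
  haveI : Nonempty (Fin n) := ⟨⟨0, hn⟩⟩
  have hψ : Function.Injective ψ := RingHom.injective ψ.toRingHom
  exact ⟨AlgEquiv.ofBijective ψ ⟨hψ, (LinearMap.injective_iff_surjective_of_finrank_eq_finrank
    (f := ψ.toLinearMap) (by rw [hD, Module.finrank_matrix, Fintype.card_fin, Module.finrank_self, mul_one])).1 hψ⟩⟩

section Split

variable [Algebra.IsCentral k A] [IsSimpleRing A] [FiniteDimensional k A] [FiniteDimensional k K] {d : ℕ}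
  (e : K ⊗[k] A ≃ₐ[K] Matrix (Fin (d + 1)) (Fin (d + 1)) K) (P : ProjRep k K A (Fin (d + 1)))

omit [Algebra.IsCentral k A] [IsSimpleRing A] in
theorem exists_invariant_mem_genLine (hP : ∀ a, P.ψ a = e ((1 : K) ⊗ₜ[k] a)) :
    ∃ z : invField P ⊗[k] A, z ≠ 0 ∧
      SBAut.bcA (invField P).val z ∈ (genLine e).1.toSubmodule := by
  classical
  let b := Module.finBasis k A
  let bR := Algebra.TensorProduct.basis (Rat K (Fin (d + 1))) b
  let bF := Algebra.TensorProduct.basis (invField P) b
  let u : Fin (d + 1) → Rat K (Fin (d + 1)) := fun l => (gen K (Fin (d + 1)) 0)⁻¹ * gen K (Fin (d + 1)) l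
  have hg0 : gen K (Fin (d + 1)) 0 ≠ 0 :=
    (map_ne_zero_iff _ (IsFractionRing.injective _ _)).2 (MvPolynomial.X_ne_zero 0)
  obtain ⟨y₀, hy₀⟩ := (SBAut.toMat_bijective e (constHom k K d)).2
    (Matrix.vecMulVec (Pi.single 0 (1 : Rat K (Fin (d + 1)))) u)
  have hy₀L : y₀ ∈ (genLine e).1.toSubmodule := by
    rw [genLine, SBAut.mem_lineObj, hy₀]
    refine ⟨(gen K (Fin (d + 1)) 0)⁻¹ • Pi.single 0 (1 : Rat K (Fin (d + 1))), ?_⟩
    ext i j
    simp [SBAut.colMap, u, Matrix.vecMulVec_apply, Pi.single_apply]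
  have hrepr : ∀ (φ : Rat K (Fin (d + 1)) →ₐ[k] Rat K (Fin (d + 1))) (y : Rat K (Fin (d + 1)) ⊗[k] A) i,
      bR.repr (SBAut.bcA φ y) i = φ (bR.repr y i) := by
    intro φ y i
    induction y using TensorProduct.induction_on with
    | zero => simp
    | tmul r a => simp [bR, Algebra.TensorProduct.basis_repr_tmul, Finsupp.smul_apply]
    | add x y hx hy => rw [map_add, map_add, Finsupp.add_apply, hx, hy, map_add, Finsupp.add_apply, map_add]
  have hdil : ∀ (c : Kˣ) i, act (1 : K ≃ₐ[k] K) (dil c) (bR.repr y₀ i) = bR.repr y₀ i := by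
    intro c i
    suffices SBAut.bcA (actHom (1 : K ≃ₐ[k] K) (dil c)) y₀ = y₀ by
      have h := hrepr (actHom (1 : K ≃ₐ[k] K) (dil c)) y₀ i
      rw [this] at h
      exact h.symm
    have hσ : (actHom (1 : K ≃ₐ[k] K) (dil c)).comp (constHom k K d) = constHom k K d :=
      AlgHom.ext fun a => act_K (1 : K ≃ₐ[k] K) (dil c) a
    apply (SBAut.toMat_bijective e (constHom k K d)).1
    conv_lhs => rw [← hσ, SBAut.toMat_bcA, hy₀]
    rw [hy₀]
    have hd : ∀ l, act (1 : K ≃ₐ[k] K) (dil c) (gen K (Fin (d + 1)) l) =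
        algebraMap K (Rat K (Fin (d + 1))) c * gen K (Fin (d + 1)) l := by
      intro l
      rw [act_gen]
      simp [dil_coe, Matrix.one_apply, apply_ite]
    ext i j
    simp only [Matrix.map_apply, Matrix.vecMulVec_apply, map_mul, u, actHom_apply, map_inv₀, hd, mul_inv]
    have hs : act (1 : K ≃ₐ[k] K) (dil c) ((Pi.single 0 1 : Fin (d + 1) → Rat K (Fin (d + 1))) i) =
        (Pi.single 0 1 : Fin (d + 1) → Rat K (Fin (d + 1))) i := by
      rw [Pi.single_apply]; split_ifs <;> simp
    rw [hs]
    have hc : algebraMap K (Rat K (Fin (d + 1))) (c : K) ≠ 0 := by simp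
    field_simp
  obtain ⟨i₀, hi₀⟩ : ∃ i₀, bR.repr y₀ i₀ ≠ 0 := by
    by_contra h
    push Not at h
    have h0 : y₀ = 0 := bR.repr.injective (Finsupp.ext fun i => by rw [h, map_zero]; rfl)
    have h1 := congrFun (congrFun hy₀ 0) 0
    rw [h0, map_zero] at h1
    simp [u, Matrix.vecMulVec_apply, hg0] at h1
  obtain ⟨c, hc⟩ : ∃ c : K, ∑ σ : K ≃ₐ[k] K,
      algebraMap K (Rat K (Fin (d + 1))) (σ c) * act σ (P.M σ) (bR.repr y₀ i₀) ≠ 0 := by
    by_contra h
    push Not at h
    let f : (K ≃ₐ[k] K) → (K →* Rat K (Fin (d + 1))) := fun σ =>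
      ((algebraMap K (Rat K (Fin (d + 1)))).comp (σ : K →+* K)).toMonoidHom
    have hf : Function.Injective f := fun σ τ h => AlgEquiv.ext fun x =>
      (algebraMap K (Rat K (Fin (d + 1)))).injective (DFunLike.congr_fun h x)
    have hli := (linearIndependent_monoidHom K (Rat K (Fin (d + 1)))).comp f hf
    have := Fintype.linearIndependent_iff.1 hli (fun σ => act σ (P.M σ) (bR.repr y₀ i₀)) (funext fun x => by
      simp only [Function.comp_apply, Finset.sum_apply, Pi.smul_apply, smul_eq_mul, Pi.zero_apply]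
      rw [← h x]
      exact Finset.sum_congr rfl fun σ _ => mul_comm _ _) 1
    exact hi₀ ((map_eq_zero_iff _ (act _ _).injective).1 this)
  let y := algebraMap K (Rat K (Fin (d + 1))) c • y₀
  have hy : ∀ i, bR.repr y i = algebraMap K (Rat K (Fin (d + 1))) c * bR.repr y₀ i := fun i => by
    simp only [y, map_smul, Finsupp.smul_apply, smul_eq_mul]
  have hymem : ∀ σ, SBAut.bcA (actHom σ (P.M σ)) y ∈ (genLine e).1.toSubmodule := fun σ => by
    have h := SBAut.bcA_mem_map (actHom σ (P.M σ)) (genLine e).1
      ((genLine e).1.toSubmodule.smul_mem (algebraMap K (Rat K (Fin (d + 1))) c) hy₀L)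
    have h2 := congrArg (fun N : BrSev.SBSet k A ((d + 1) * (d + 1) - (d + 1)) (Rat K (Fin (d + 1))) =>
      N.1.toSubmodule) (sbMap_genLine e σ (P.M σ) fun a => by rw [← hP]; exact P.rel σ a)
    rw [← h2]
    exact h
  let x : Fin (Module.finrank k A) → invField P := fun i =>
    ⟨∑ σ : K ≃ₐ[k] K, act σ (P.M σ) (bR.repr y i), sum_act_mem_invField P _ fun c' => by
      rw [hy, map_mul, hdil, act_K]; rfl⟩
  let z : invField P ⊗[k] A := ∑ i, x i • bF i
  have hbF : ∀ i, SBAut.bcA (invField P).val (bF i) = bR i := fun i => by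
    simp [bF, bR]
  have hz : SBAut.bcA (invField P).val z = ∑ σ : K ≃ₐ[k] K, SBAut.bcA (actHom σ (P.M σ)) y := by
    refine bR.repr.injective (Finsupp.ext fun i => ?_)
    rw [map_sum (SBAut.bcA (invField P).val), map_sum bR.repr, map_sum bR.repr, Finsupp.finsetSum_apply, Finsupp.finsetSum_apply]
    simp only [hrepr, actHom_apply]
    rw [Finset.sum_eq_single i]
    · have hxi : SBAut.bcA (invField P).val (x i • bF i) = (x i : Rat K (Fin (d + 1))) • bR i := by
        rw [Algebra.smul_def, map_mul, hbF, Algebra.smul_def]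
        congr 1
      rw [hxi, map_smul, Finsupp.smul_apply, bR.repr_self, Finsupp.single_eq_same, smul_eq_mul, mul_one]
    · intro l _ hl
      have hxl : SBAut.bcA (invField P).val (x l • bF l) = (x l : Rat K (Fin (d + 1))) • bR l := by
        rw [Algebra.smul_def, map_mul, hbF, Algebra.smul_def]
        congr 1
      rw [hxl, map_smul, Finsupp.smul_apply, bR.repr_self, Finsupp.single_eq_of_ne (Ne.symm hl), smul_zero]
    · exact fun hi => absurd (Finset.mem_univ i) hi
  refine ⟨z, fun hz0 => hc ?_, hz ▸ Submodule.sum_mem _ fun σ _ => hymem σ⟩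
  have hx0 : x i₀ = 0 := by
    have := congrArg (fun w => bF.repr w i₀) hz0
    simp only [z, bF.repr_sum_self, map_zero, Finsupp.zero_apply] at this
    exact this
  have := congrArg Subtype.val hx0
  simp only [x, hy, map_mul, act_K] at this
  exact this

/-- The invariant field splits the algebra. -/
theorem splits_invField (hP : ∀ a, P.ψ a = e ((1 : K) ⊗ₜ[k] a))
    (hA : Module.finrank k A = (d + 1) * (d + 1)) : Curves.Splits k A (invField P) := by
  obtain ⟨z, hz0, hz⟩ := exists_invariant_mem_genLine e P hP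
  let N := (genLine e).1.toSubmodule
  haveI : IsSimpleRing (invField P ⊗[k] A) := CSA.isSimpleRing_baseChange k A _
  let V : Submodule (invField P) (invField P ⊗[k] A) := LinearMap.range (LinearMap.mulRight (invField P) z)
  have hFA : Module.finrank (invField P) (invField P ⊗[k] A) = (d + 1) * (d + 1) := by
    rw [Module.finrank_baseChange, hA]
  obtain ⟨E⟩ := exists_matrix_equiv_of_ideal (Nat.succ_pos d) hFA V
    (by rintro a _ ⟨b, rfl⟩; exact ⟨a * b, mul_assoc a b z⟩)
    (fun h => hz0 (by
      have h1 : z ∈ V := ⟨1, one_mul z⟩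
      rwa [h, Submodule.mem_bot] at h1))
    (by
      let μ : Rat K (Fin (d + 1)) ⊗[invField P] V →ₗ[Rat K (Fin (d + 1))] Rat K (Fin (d + 1)) ⊗[k] A :=
        (TensorProduct.AlgebraTensorModule.cancelBaseChange k (invField P) (Rat K (Fin (d + 1)))
          (Rat K (Fin (d + 1))) A).toLinearMap ∘ₗ LinearMap.baseChange (Rat K (Fin (d + 1))) V.subtype
      have hμ : Function.Injective μ := by
        refine (TensorProduct.AlgebraTensorModule.cancelBaseChange k (invField P) (Rat K (Fin (d + 1)))
          (Rat K (Fin (d + 1))) A).injective.comp ?_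
        rw [LinearMap.baseChange_eq_ltensor]
        exact Module.Flat.lTensor_preserves_injective_linearMap (M := Rat K (Fin (d + 1))) V.subtype V.injective_subtype
      have key : ∀ (r : Rat K (Fin (d + 1))) (w : invField P ⊗[k] A),
          TensorProduct.AlgebraTensorModule.cancelBaseChange k (invField P) (Rat K (Fin (d + 1)))
            (Rat K (Fin (d + 1))) A (r ⊗ₜ w) = r • SBAut.bcA (invField P).val w := by
        intro r w
        induction w using TensorProduct.induction_on with
        | zero => simp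
        | tmul f a =>
          rw [TensorProduct.AlgebraTensorModule.cancelBaseChange_tmul, Algebra.TensorProduct.map_tmul,
            AlgHom.id_apply, TensorProduct.smul_tmul', smul_eq_mul]
          congr 1
          exact mul_comm _ _
        | add v w hv hw => simp only [TensorProduct.tmul_add, map_add, hv, hw, smul_add]
      have hμN : ∀ t, μ t ∈ N := by
        intro t
        induction t using TensorProduct.induction_on with
        | zero => rw [map_zero]; exact zero_mem _
        | tmul r w =>
          obtain ⟨_, a, rfl⟩ := w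
          show TensorProduct.AlgebraTensorModule.cancelBaseChange _ _ _ _ _
            ((LinearMap.baseChange (Rat K (Fin (d + 1))) V.subtype) _) ∈ N
          rw [LinearMap.baseChange_tmul, key]
          refine N.smul_mem r ?_
          show SBAut.bcA (invField P).val (a * z) ∈ N
          rw [map_mul]
          exact (genLine e).2 _ _ hz
        | add v w hv hw => rw [map_add]; exact add_mem hv hw
      haveI : FiniteDimensional (invField P) V := inferInstance
      haveI : FiniteDimensional (Rat K (Fin (d + 1))) N := inferInstance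
      have h1 := LinearMap.finrank_le_finrank_of_injective (f := μ.codRestrict N hμN)
        (fun v w h => hμ (congrArg Subtype.val h))
      haveI : Module.Free (invField P) V := by exact Module.Free.of_basis (Module.Basis.ofVectorSpace (invField P) V)
      rw [Module.finrank_baseChange] at h1
      let T : N →ₗ[Rat K (Fin (d + 1))] SBAut.lineMat (Rat K (Fin (d + 1))) (gen K (Fin (d + 1))) :=
        ((SBAut.toMat e (constHom k K d)).toLinearMap ∘ₗ N.subtype).codRestrict _
          fun w => (SBAut.mem_lineObj e _ _).1 w.2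
      have h2 := LinearMap.finrank_le_finrank_of_injective (f := T)
        (fun v w h => Subtype.ext ((SBAut.toMat_bijective e (constHom k K d)).1 (congrArg Subtype.val h)))
      have h3 := LinearMap.finrank_range_le (SBAut.colMap (Rat K (Fin (d + 1))) (gen K (Fin (d + 1))))
      rw [Module.finrank_fin_fun] at h3
      exact h1.trans (h2.trans h3))
  exact ⟨d + 1, Nat.succ_ne_zero d, ⟨E⟩⟩

end Split

/-- A splitting field with kernel generated by the algebra. -/
theorem exists_generic_splitting [Infinite k] (A : Type u) [Ring A] [Algebra k A] [Algebra.IsCentral k A]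
    [IsSimpleRing A] [FiniteDimensional k A] {n : ℕ} (hn : 0 < n) (hA : Module.finrank k A = n * n) :
    ∃ (F : Type u) (_ : Field F) (_ : Algebra k F), Curves.Splits k A F ∧
      ∀ (B : Type u) [Ring B] [Algebra k B] [Algebra.IsCentral k B] [IsSimpleRing B] [FiniteDimensional k B],
        Curves.Splits k B F → ∃ (i p q : ℕ), p ≠ 0 ∧ q ≠ 0 ∧
          Nonempty (Matrix (Fin p) (Fin p) B ≃ₐ[k] Matrix (Fin q) (Fin q) (CSAGal.tpow k A i)) := by
  obtain ⟨d, rfl⟩ := Nat.exists_eq_succ_of_ne_zero hn.ne'
  obtain ⟨K, _, _, _, _, m, hm, ⟨e⟩⟩ := Groth.L21.CSA.exists_galois_splitting k A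
  obtain rfl : m = d + 1 := by
    have h := e.toLinearEquiv.finrank_eq
    rw [Module.finrank_baseChange, hA, Module.finrank_matrix, Module.finrank_self, Fintype.card_fin, mul_one] at h
    exact (Nat.mul_self_inj.1 h).symm
  obtain ⟨P, hP⟩ := ProjRep.exists_of_splitting A (Nat.succ_pos d) e
  refine ⟨invField P, inferInstance, inferInstance, splits_invField e P hP hA, fun B _ _ _ _ _ hB => ?_⟩
  obtain ⟨K', _, _, _, _, _, _, r, hr, ⟨e'⟩⟩ := exists_galois_splitting_over (k := k) (K := K) B
  haveI : Infinite K := Infinite.of_injective _ (algebraMap k K).injective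
  haveI : Nonempty (Fin r) := ⟨⟨0, Nat.pos_of_ne_zero hr⟩⟩
  obtain ⟨P', -⟩ := ProjRep.exists_of_splitting B (Nat.pos_of_ne_zero hr) e'
  refine exists_beq_tpow_of_splits (P.inflate (K' := K')) P' (invField P)
    ((ratMap (k := k) (K' := K')).comp (invField P).val) (fun σ x => ?_) (fun c x => ?_) hB
  · exact (act_ratMap σ (P.M (res σ)) (x : Rat K (Fin (d + 1)))).trans
      (congrArg _ ((mem_invField.1 x.2).1 (res σ)))
  · exact ratMap_dil (x : Rat K (Fin (d + 1))) (mem_invField.1 x.2).2 c

end Groth.L11.Amitsur
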