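import Groth.Agent.L11.Amitsur.Core
import Groth.Agent.L21.CSA.SepSubfield
import Mathlib.Algebra.Polynomial.Roots
import Mathlib.RingTheory.MvPolynomial.Basic
import Mathlib.FieldTheory.Normal.Basic

/-!
# Inflation of projective representations
-/

set_option autoImplicit false
set_option linter.style.haveILetI false

noncomputable section

universe u

open scoped TensorProduct

namespace Groth.L11.Amitsur

variable {k : Type u} [Field k] {K : Type u} [Field K] [Algebra k K]

/-- A Galois splitting containing a given finite separable extension. -/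
theorem exists_galois_splitting_over [FiniteDimensional k K] [Algebra.IsSeparable k K] (B : Type u) [Ring B]
    [Algebra k B] [Algebra.IsCentral k B] [IsSimpleRing B] [FiniteDimensional k B] :
    ∃ (K' : Type u) (_ : Field K') (_ : Algebra k K') (_ : Algebra K K') (_ : IsScalarTower k K K'),
      FiniteDimensional k K' ∧ IsGalois k K' ∧
      ∃ n : ℕ, n ≠ 0 ∧ Nonempty (K' ⊗[k] B ≃ₐ[K'] Matrix (Fin n) (Fin n) K') := by
  haveI : IsSimpleRing (K ⊗[k] B) := CSA.isSimpleRing_baseChange k B K
  haveI : Algebra.IsCentral K (K ⊗[k] B) := Groth.L11.CSA.isCentral_baseChange k B K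
  obtain ⟨k₂, _, _, _, _, m, hm, ⟨e₂⟩⟩ := Groth.L21.CSA.exists_separable_splitting K (K ⊗[k] B)
  letI : Algebra k k₂ := ((algebraMap K k₂).comp (algebraMap k K)).toAlgebra
  haveI : IsScalarTower k K k₂ := IsScalarTower.of_algebraMap_eq' rfl
  haveI : FiniteDimensional k k₂ := Module.Finite.trans K k₂
  haveI : Algebra.IsSeparable k k₂ := Algebra.IsSeparable.trans k K k₂
  let N := IntermediateField.normalClosure k k₂ (AlgebraicClosure k₂)
  haveI : Algebra.IsSeparable k N := by
    rw [← le_separableClosure_iff]
    refine normalClosure_le_iff.mpr fun f => ?_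
    rw [le_separableClosure_iff]
    exact AlgEquiv.Algebra.isSeparable (AlgEquiv.ofInjectiveField f)
  letI : Algebra K N := ((algebraMap k₂ N).comp (algebraMap K k₂)).toAlgebra
  haveI : IsScalarTower k K N := IsScalarTower.of_algebraMap_eq fun c => by
    rw [RingHom.algebraMap_toAlgebra, RingHom.comp_apply, ← IsScalarTower.algebraMap_apply k K k₂,
      ← IsScalarTower.algebraMap_apply k k₂ N]
  exact ⟨N, inferInstance, inferInstance, inferInstance, inferInstance, inferInstance,
    isGalois_iff.mpr ⟨inferInstance, inferInstance⟩,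
    Groth.L21.CSA.splits_trans k B k₂ _ ⟨m, hm, ⟨(Groth.L21.CSA.cancelEquiv k B K k₂).trans e₂⟩⟩⟩

variable {K' : Type u} [Field K'] [Algebra k K'] [Algebra K K'] [IsScalarTower k K K'] [Normal k K]
  {A : Type u} [Ring A] [Algebra k A] {ι : Type} [Fintype ι] [DecidableEq ι]

/-- Restriction to the smaller field. -/
abbrev res : (K' ≃ₐ[k] K') →* (K ≃ₐ[k] K) := AlgEquiv.restrictNormalHom K

theorem algebraMap_res (σ : K' ≃ₐ[k] K') (x : K) :
    algebraMap K K' (res (K := K) σ x) = σ (algebraMap K K' x) :=
  AlgEquiv.restrictNormal_commutes σ K x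

theorem map_res (σ : K' ≃ₐ[k] K') (X : Matrix ι ι K) :
    (X.map (algebraMap K K')).map σ = (X.map (res (K := K) σ)).map (algebraMap K K') := by
  ext i j; exact (algebraMap_res σ _).symm

/-- The inflated representation. -/
def ProjRep.inflate (P : ProjRep k K A ι) : ProjRep k K' A ι where
  ψ := ((IsScalarTower.toAlgHom k K K').mapMatrix).comp P.ψ
  span := by
    rw [eq_top_iff]
    intro Y hY
    clear hY
    have h : ∀ X : Matrix ι ι K, X.map (algebraMap K K') ∈
        Submodule.span K' (Set.range (((IsScalarTower.toAlgHom k K K').mapMatrix).comp P.ψ)) := by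
      intro X
      induction (P.span.symm ▸ Submodule.mem_top : X ∈ Submodule.span K (Set.range P.ψ)) using
          Submodule.span_induction with
      | mem Z hZ => obtain ⟨a, rfl⟩ := hZ; exact Submodule.subset_span ⟨a, rfl⟩
      | zero => simp
      | add U V _ _ hU hV => rw [Matrix.map_add _ (map_add _)]; exact add_mem hU hV
      | smul c U _ hU =>
        rw [show (c • U).map (algebraMap K K') = algebraMap K K' c • U.map (algebraMap K K') by ext i j; simp]
        exact Submodule.smul_mem _ _ hU
    rw [Matrix.matrix_eq_sum_single Y]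
    refine sum_mem fun i _ => sum_mem fun j _ => ?_
    rw [show Matrix.single i j (Y i j) = Y i j • (Matrix.single i j (1 : K)).map (algebraMap K K') by
      rw [Matrix.map_single _ _ _ (algebraMap K K'), map_one, Matrix.smul_single, smul_eq_mul, mul_one]]
    exact Submodule.smul_mem _ _ (h _)
  dim := P.dim
  M σ := Units.map ((algebraMap K K').mapMatrix : Matrix ι ι K →+* Matrix ι ι K').toMonoidHom (P.M (res σ))
  rel σ a := by
    show (P.ψ a).map (algebraMap K K') * (P.M (res σ) : Matrix ι ι K).map (algebraMap K K') =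
      (P.M (res σ) : Matrix ι ι K).map (algebraMap K K') * ((P.ψ a).map (algebraMap K K')).map σ
    rw [map_res, ← Matrix.map_mul, ← Matrix.map_mul, P.rel]
  a σ τ := Units.map (algebraMap K K').toMonoidHom (P.a (res σ) (res τ))
  cocycle σ τ := by
    show (P.M (res σ) : Matrix ι ι K).map (algebraMap K K') *
        ((P.M (res τ) : Matrix ι ι K).map (algebraMap K K')).map σ =
      algebraMap K K' (P.a (res σ) (res τ) : K) • (P.M (res (σ * τ)) : Matrix ι ι K).map (algebraMap K K')
    rw [map_res, ← Matrix.map_mul, P.cocycle, map_mul (res (K := K))]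
    ext i j; simp

/-- Rational functions over the bigger field. -/
def ratMap : Rat K ι →ₐ[k] Rat K' ι where
  toRingHom := IsFractionRing.map (A := MvPolynomial ι K) (B := MvPolynomial ι K')
    (j := MvPolynomial.map (algebraMap K K')) (MvPolynomial.map_injective _ (algebraMap K K').injective)
  commutes' c := by
    rw [IsScalarTower.algebraMap_apply k K (Rat K ι), ← algebraMap_C,
      IsScalarTower.algebraMap_apply k K' (Rat K' ι), ← algebraMap_C]
    refine (IsLocalization.map_eq _ _).trans ?_
    rw [MvPolynomial.map_C, ← IsScalarTower.algebraMap_apply k K K']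

theorem ratMap_algebraMap (p : MvPolynomial ι K) :
    ratMap (k := k) (K' := K') (algebraMap _ (Rat K ι) p) =
      algebraMap _ (Rat K' ι) (MvPolynomial.map (algebraMap K K') p) :=
  IsLocalization.map_eq (S := Rat K ι) (Q := Rat K' ι) (M := nonZeroDivisors (MvPolynomial ι K))
    (T := nonZeroDivisors (MvPolynomial ι K'))
    (nonZeroDivisors_le_comap_nonZeroDivisors_of_injective _
      (MvPolynomial.map_injective _ (algebraMap K K').injective)) p

theorem act_ratMap (σ : K' ≃ₐ[k] K') (M : (Matrix ι ι K)ˣ) (x : Rat K ι) :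
    act σ (Units.map ((algebraMap K K').mapMatrix : Matrix ι ι K →+* Matrix ι ι K').toMonoidHom M)
      (ratMap (k := k) (K' := K') x) = ratMap (k := k) (K' := K') (act (res σ) M x) := by
  set M' := Units.map ((algebraMap K K').mapMatrix : Matrix ι ι K →+* Matrix ι ι K').toMonoidHom M
  have hp : ∀ p : MvPolynomial ι K, substHom σ (M' : Matrix ι ι K') (MvPolynomial.map (algebraMap K K') p) =
      MvPolynomial.map (algebraMap K K') (substHom (res σ) (M : Matrix ι ι K) p) := by
    have h : (substHom σ (M' : Matrix ι ι K')).comp (MvPolynomial.map (algebraMap K K')) =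
        (MvPolynomial.map (algebraMap K K')).comp (substHom (res σ) (M : Matrix ι ι K)) := by
      refine MvPolynomial.ringHom_ext (fun c => ?_) fun j => ?_
      · simp only [RingHom.comp_apply, MvPolynomial.map_C, substHom_C, algebraMap_res]
      · simp only [RingHom.comp_apply, MvPolynomial.map_X, substHom_X, map_sum, map_mul, MvPolynomial.map_C]
        rfl
    exact fun p => RingHom.congr_fun h p
  obtain ⟨p, q, -, rfl⟩ := IsFractionRing.div_surjective (MvPolynomial ι K) x
  simp only [map_div₀, ratMap_algebraMap, act_algebraMap, hp]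

/-- Polynomials after a dilation as a polynomial in the factor. -/
def dilPoly (L : Type u) [Field L] : MvPolynomial ι L →+* Polynomial (MvPolynomial ι L) :=
  MvPolynomial.eval₂Hom ((Polynomial.C).comp MvPolynomial.C) fun i => Polynomial.C (MvPolynomial.X i) * Polynomial.X

theorem eval_dilPoly (c : K'ˣ) (r : MvPolynomial ι K') :
    (dilPoly K' r).eval (MvPolynomial.C (c : K')) =
      substHom (1 : K' ≃ₐ[k] K') ((dil c : (Matrix ι ι K')ˣ) : Matrix ι ι K') r := by
  have h : (Polynomial.evalRingHom (MvPolynomial.C (c : K'))).comp (dilPoly K') =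
      substHom (1 : K' ≃ₐ[k] K') ((dil c : (Matrix ι ι K')ˣ) : Matrix ι ι K') := by
    refine MvPolynomial.ringHom_ext (fun a => by simp [dilPoly, substHom_C]) fun j => ?_
    simp only [RingHom.comp_apply, substHom_X, dil_coe, Matrix.smul_apply, Matrix.one_apply, smul_eq_mul,
      mul_ite, mul_one, mul_zero]
    simp [dilPoly, apply_ite, ite_mul]
    ring
  exact RingHom.congr_fun h r

theorem map_dilPoly (r : MvPolynomial ι K) :
    (dilPoly K r).map (MvPolynomial.map (algebraMap K K')) = dilPoly K' (MvPolynomial.map (algebraMap K K') r) := by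
  have h : (Polynomial.mapRingHom (MvPolynomial.map (algebraMap K K'))).comp (dilPoly K) =
      (dilPoly (ι := ι) K').comp (MvPolynomial.map (algebraMap K K')) :=
    MvPolynomial.ringHom_ext (fun a => by simp [dilPoly]) fun j => by simp [dilPoly]
  exact RingHom.congr_fun h r

theorem ratMap_dil [Infinite K] (x : Rat K ι) (hx : ∀ c : Kˣ, act (1 : K ≃ₐ[k] K) (dil c) x = x) (c : K'ˣ) :
    act (1 : K' ≃ₐ[k] K') (dil c) (ratMap (k := k) (K' := K') x) = ratMap (k := k) (K' := K') x := by
  obtain ⟨p, q, hq, rfl⟩ := IsFractionRing.div_surjective (MvPolynomial ι K) x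
  have hq0 : q ≠ 0 := nonZeroDivisors.ne_zero hq
  set G := dilPoly K p * Polynomial.C q - dilPoly K q * Polynomial.C p with hG
  have hG0 : G = 0 := by
    have hsub : Set.Subsingleton ∅ := Set.subsingleton_empty (α := K)
    refine Polynomial.eq_zero_of_infinite_isRoot _ (Set.Infinite.mono (s :=
      (fun c : K => (MvPolynomial.C c : MvPolynomial ι K)) '' {c | c ≠ 0}) ?_ ?_)
    · rintro _ ⟨c, hc, rfl⟩
      show Polynomial.eval _ G = 0
      have h := hx (Units.mk0 c hc)
      rw [map_div₀, act_algebraMap, act_algebraMap, div_eq_div_iff, ← map_mul, ← map_mul] at h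
      · rw [hG, Polynomial.eval_sub, Polynomial.eval_mul, Polynomial.eval_mul, Polynomial.eval_C,
          Polynomial.eval_C, ← Units.val_mk0 hc, eval_dilPoly (k := k) (Units.mk0 c hc) p,
          eval_dilPoly (k := k) (Units.mk0 c hc) q, IsFractionRing.injective _ _ h]
        ring
      · exact (map_ne_zero_iff _ (IsFractionRing.injective _ _)).2
          ((map_ne_zero_iff _ (subst (1 : K ≃ₐ[k] K) (dil (Units.mk0 c hc))).injective).2 hq0)
      · exact (map_ne_zero_iff _ (IsFractionRing.injective _ _)).2 hq0
    · refine Set.Infinite.image (fun a _ b _ h => MvPolynomial.C_injective ι K h) ?_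
      exact (Set.finite_singleton (0 : K)).infinite_compl
  have hG' := congrArg (fun g => (g.map (MvPolynomial.map (algebraMap K K'))).eval (MvPolynomial.C (c : K'))) hG0
  simp only [hG, Polynomial.map_sub, Polynomial.map_mul, Polynomial.map_C, map_dilPoly, Polynomial.eval_sub,
    Polynomial.eval_mul, Polynomial.eval_C, eval_dilPoly (k := k), Polynomial.map_zero, Polynomial.eval_zero,
    sub_eq_zero] at hG'
  have hq' : MvPolynomial.map (algebraMap K K') q ≠ 0 :=
    (map_ne_zero_iff _ (MvPolynomial.map_injective _ (algebraMap K K').injective)).2 hq0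
  rw [map_div₀, ratMap_algebraMap, ratMap_algebraMap, map_div₀, act_algebraMap, act_algebraMap, div_eq_div_iff,
    ← map_mul, ← map_mul, hG', mul_comm]
  · exact (map_ne_zero_iff _ (IsFractionRing.injective _ _)).2
      ((map_ne_zero_iff _ (subst (1 : K' ≃ₐ[k] K') (dil c)).injective).2 hq')
  · exact (map_ne_zero_iff _ (IsFractionRing.injective _ _)).2 hq'

end Groth.L11.Amitsur
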