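import Groth.Agent.L11.CSA.TPow
import Groth.Agent.L11.CSA.Skolem
import Groth.Agent.L11.CSA.Split
import Groth.Agent.L11.CSA.BrauerEq
import Groth.Agent.L11.Descent
import Groth.Prelude.Def_GSzCSA
import Mathlib.Data.Matrix.Composition
import Mathlib.FieldTheory.Galois.Basic
import Mathlib.Algebra.MvPolynomial.Funext
import Mathlib.LinearAlgebra.Matrix.MvPolynomial
import Mathlib.LinearAlgebra.Dimension.OrzechProperty
import Mathlib.LinearAlgebra.Matrix.Reindex
import Mathlib.LinearAlgebra.Matrix.GeneralLinearGroup.Defs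

/-!
# Projective semilinear representations of split central simple algebras

A central simple algebra split by a finite Galois extension `K / k` gives matrices `M σ` with a
two-cocycle `a`; algebras with cohomologous cocycles are Brauer equivalent.
-/

set_option autoImplicit false
set_option linter.style.haveILetI false

universe u

open scoped TensorProduct

namespace Groth.L11.Amitsur

variable {k : Type u} [Field k] {K : Type u} [Field K] [Algebra k K]

/-- A projective semilinear representation attached to a splitting of `A`. -/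
structure ProjRep (k K : Type u) [Field k] [Field K] [Algebra k K] (A : Type u) [Ring A] [Algebra k A]
    (ι : Type) [Fintype ι] [DecidableEq ι] : Type u where
  ψ : A →ₐ[k] Matrix ι ι K
  span : Submodule.span K (Set.range ψ) = ⊤
  dim : Module.finrank k A = Fintype.card ι * Fintype.card ι
  M : (K ≃ₐ[k] K) → (Matrix ι ι K)ˣ
  rel : ∀ σ a, ψ a * (M σ : Matrix ι ι K) = (M σ : Matrix ι ι K) * (ψ a).map σ
  a : (K ≃ₐ[k] K) → (K ≃ₐ[k] K) → Kˣ
  cocycle : ∀ σ τ, (M σ : Matrix ι ι K) * (M τ : Matrix ι ι K).map σ = (a σ τ : K) • (M (σ * τ) : Matrix ι ι K)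

variable {ι : Type} [Fintype ι] [DecidableEq ι]

theorem map_mul_aut (σ : K ≃ₐ[k] K) (X Y : Matrix ι ι K) : (X * Y).map σ = X.map σ * Y.map σ :=
  Matrix.map_mul (f := (σ : K →+* K))

theorem map_map_aut (σ τ : K ≃ₐ[k] K) (X : Matrix ι ι K) : (X.map τ).map σ = X.map (σ * τ : K ≃ₐ[k] K) :=
  Matrix.map_map

theorem map_smul_aut (σ : K ≃ₐ[k] K) (c : K) (X : Matrix ι ι K) : (c • X).map σ = σ c • X.map σ := by
  ext i j; exact map_mul σ c (X i j)

theorem map_add_aut (σ : K ≃ₐ[k] K) (X Y : Matrix ι ι K) : (X + Y).map σ = X.map σ + Y.map σ :=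
  Matrix.map_add _ (map_add σ) _ _

theorem map_one_aut (σ : K ≃ₐ[k] K) : (1 : Matrix ι ι K).map σ = 1 :=
  Matrix.map_one _ (map_zero σ) (map_one σ)

theorem map_inv_aut (σ : K ≃ₐ[k] K) (X : (Matrix ι ι K)ˣ) :
    (X : Matrix ι ι K).map σ * (↑X⁻¹ : Matrix ι ι K).map σ = 1 := by
  rw [← map_mul_aut, Units.mul_inv, map_one_aut]

namespace ProjRep

section Construct

variable (A : Type u) [Ring A] [Algebra k A] [Algebra.IsCentral k A] [IsSimpleRing A]

theorem exists_of_splitting [FiniteDimensional k A] {n : ℕ} (hn : 0 < n)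
    (φ : K ⊗[k] A ≃ₐ[K] Matrix (Fin n) (Fin n) K) :
    ∃ P : ProjRep k K A (Fin n), ∀ a, P.ψ a = φ ((1 : K) ⊗ₜ[k] a) := by
  classical
  haveI : Nonempty (Fin n) := ⟨⟨0, hn⟩⟩
  haveI : IsSimpleRing (K ⊗[k] A) := IsSimpleRing.of_ringEquiv φ.symm.toRingEquiv inferInstance
  let ψ : A →ₐ[k] Matrix (Fin n) (Fin n) K :=
    (φ.toAlgHom.restrictScalars k).comp Algebra.TensorProduct.includeRight
  have hφ : ∀ z, φ z ∈ Submodule.span K (Set.range ψ) := by
    intro z
    induction z using TensorProduct.induction_on with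
    | zero => simp
    | tmul c a =>
      rw [show c ⊗ₜ[k] a = c • ((1 : K) ⊗ₜ[k] a) by rw [TensorProduct.smul_tmul', smul_eq_mul, mul_one], map_smul]
      exact Submodule.smul_mem _ _ (Submodule.subset_span ⟨a, rfl⟩)
    | add x y hx hy => rw [map_add]; exact add_mem hx hy
  have hspan : Submodule.span K (Set.range ψ) = ⊤ :=
    eq_top_iff.2 fun X _ => φ.apply_symm_apply X ▸ hφ _
  have hdim : Module.finrank k A = Fintype.card (Fin n) * Fintype.card (Fin n) := by
    have h := φ.toLinearEquiv.finrank_eq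
    rw [Module.finrank_baseChange, Module.finrank_matrix, Module.finrank_self, mul_one] at h
    exact h
  have key : ∀ σ : K ≃ₐ[k] K, ∃ x : (Matrix (Fin n) (Fin n) K)ˣ,
      ∀ a, ψ a * (x : Matrix (Fin n) (Fin n) K) = (x : Matrix (Fin n) (Fin n) K) * (ψ a).map σ := by
    intro σ
    let ψσ : A →ₐ[k] Matrix (Fin n) (Fin n) K := (σ.toAlgHom.mapMatrix).comp ψ
    let f : K ⊗[k] A →ₐ[K] Matrix (Fin n) (Fin n) K :=
      Algebra.TensorProduct.lift (Algebra.ofId K _) ψσ fun r b => Algebra.commutes r _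
    obtain ⟨x, hx⟩ := Groth.L11.CSA.skolem_noether K (Matrix (Fin n) (Fin n) K) φ.toAlgHom f
    refine ⟨x, fun a => ?_⟩
    have h1 : φ.toAlgHom ((1 : K) ⊗ₜ[k] a) = _ := hx ((1 : K) ⊗ₜ[k] a)
    have h2 : f ((1 : K) ⊗ₜ[k] a) = (ψ a).map σ := by
      simp [f, ψσ]
    rw [h2] at h1
    show φ.toAlgHom ((1 : K) ⊗ₜ[k] a) * _ = _
    rw [h1, mul_assoc, Units.inv_mul, mul_one]
  choose M hM using key
  have hmapspan : ∀ (σ : K ≃ₐ[k] K) (X : Matrix (Fin n) (Fin n) K),
      X ∈ Submodule.span K (Set.range fun a => (ψ a).map σ) := by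
    intro σ X
    have hX : (X.map σ.symm).map σ = X := by ext i j; simp
    rw [← hX]
    suffices ∀ Y ∈ Submodule.span K (Set.range ψ), Y.map σ ∈ Submodule.span K (Set.range fun a => (ψ a).map σ) from
      this _ (hspan.symm ▸ Submodule.mem_top)
    intro Y hY
    induction hY using Submodule.span_induction with
    | mem Y hY => obtain ⟨a, rfl⟩ := hY; exact Submodule.subset_span ⟨a, rfl⟩
    | zero => simp
    | add Y Z _ _ hY hZ => rw [map_add_aut]; exact add_mem hY hZ
    | smul c Y _ hY => rw [map_smul_aut]; exact Submodule.smul_mem _ _ hY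
  have hz : ∀ σ τ : K ≃ₐ[k] K, ∃ c : Kˣ,
      (M σ : Matrix (Fin n) (Fin n) K) * (M τ : Matrix (Fin n) (Fin n) K).map σ =
        (c : K) • (M (σ * τ) : Matrix (Fin n) (Fin n) K) := by
    intro σ τ
    set z := (↑(M (σ * τ))⁻¹ : Matrix (Fin n) (Fin n) K) *
      ((M σ : Matrix (Fin n) (Fin n) K) * (M τ : Matrix (Fin n) (Fin n) K).map σ) with hzdef
    have hcomm : ∀ a, (ψ a).map (σ * τ : K ≃ₐ[k] K) * z = z * (ψ a).map (σ * τ : K ≃ₐ[k] K) := by
      intro a
      have h1 : ψ a * ((M σ : Matrix (Fin n) (Fin n) K) * (M τ : Matrix (Fin n) (Fin n) K).map σ) =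
          ((M σ : Matrix (Fin n) (Fin n) K) * (M τ : Matrix (Fin n) (Fin n) K).map σ) *
            (ψ a).map (σ * τ : K ≃ₐ[k] K) := by
        rw [← mul_assoc, hM σ, mul_assoc, ← map_mul_aut, hM τ, map_mul_aut, map_map_aut, mul_assoc]
      have h2 : (↑(M (σ * τ))⁻¹ : Matrix (Fin n) (Fin n) K) * ψ a =
          (ψ a).map (σ * τ : K ≃ₐ[k] K) * (↑(M (σ * τ))⁻¹ : Matrix (Fin n) (Fin n) K) := by
        rw [Units.inv_mul_eq_iff_eq_mul, ← mul_assoc, ← hM (σ * τ), mul_assoc, Units.mul_inv, mul_one]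
      rw [hzdef, ← mul_assoc, ← h2, mul_assoc, h1, ← mul_assoc]
    have hc : z ∈ Subalgebra.center K (Matrix (Fin n) (Fin n) K) := by
      rw [Subalgebra.mem_center_iff]
      intro X
      induction hmapspan (σ * τ) X using Submodule.span_induction with
      | mem Y hY => obtain ⟨a, rfl⟩ := hY; exact hcomm a
      | zero => simp
      | add Y Z _ _ hY hZ => rw [add_mul, mul_add, hY, hZ]
      | smul c Y _ hY => rw [smul_mul_assoc, mul_smul_comm, hY]
    rw [Algebra.IsCentral.center_eq_bot, Algebra.mem_bot] at hc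
    obtain ⟨c, hc⟩ := hc
    have heq : (M σ : Matrix (Fin n) (Fin n) K) * (M τ : Matrix (Fin n) (Fin n) K).map σ =
        c • (M (σ * τ) : Matrix (Fin n) (Fin n) K) := by
      have := congrArg ((M (σ * τ) : Matrix (Fin n) (Fin n) K) * ·) hc
      simp only [hzdef, Units.mul_inv_cancel_left] at this
      rw [← this, Algebra.algebraMap_eq_smul_one, mul_smul_comm, mul_one]
    have hc0 : c ≠ 0 := by
      rintro rfl
      rw [zero_smul] at heq
      exact ((M σ).isUnit.mul (IsUnit.of_mul_eq_one _ (map_inv_aut σ (M τ)))).ne_zero heq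
    exact ⟨Units.mk0 c hc0, heq⟩
  choose c hc using hz
  exact ⟨⟨ψ, hspan, hdim, M, hM, c, hc⟩, fun _ => rfl⟩

end Construct

variable {A B : Type u} [Ring A] [Algebra k A] [Ring B] [Algebra k B]

/-- Matrices over an algebra. -/
def matrix (P : ProjRep k K A ι) (κ : Type) [Fintype κ] [DecidableEq κ] :
    ProjRep k K (Matrix κ κ A) (κ × ι) where
  ψ := ((Matrix.compAlgEquiv κ ι K k).toAlgHom).comp P.ψ.mapMatrix
  span := by
    classical
    rw [eq_top_iff]
    intro X _
    rw [Matrix.matrix_eq_sum_single X]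
    refine sum_mem fun p _ => sum_mem fun q _ => ?_
    have hmem : ∀ Y : Matrix ι ι K, ∀ i j : κ, Matrix.compAlgEquiv κ ι K k (Matrix.single i j Y) ∈
        Submodule.span K (Set.range (((Matrix.compAlgEquiv κ ι K k).toAlgHom).comp P.ψ.mapMatrix)) := by
      intro Y i j
      induction (P.span.symm ▸ Submodule.mem_top : Y ∈ Submodule.span K (Set.range P.ψ)) using
          Submodule.span_induction with
      | mem Y hY =>
        obtain ⟨a, rfl⟩ := hY
        refine Submodule.subset_span ⟨Matrix.single i j a, ?_⟩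
        show Matrix.compAlgEquiv κ ι K k ((Matrix.single i j a).map P.ψ) = _
        rw [Matrix.map_single _ _ _ P.ψ]
      | zero => rw [Matrix.single_zero, map_zero]; exact zero_mem _
      | add Y Z _ _ hY hZ => rw [Matrix.single_add, map_add]; exact add_mem hY hZ
      | smul c Y _ hY =>
        have : Matrix.compAlgEquiv κ ι K k (Matrix.single i j (c • Y)) =
            c • Matrix.compAlgEquiv κ ι K k (Matrix.single i j Y) := by
          ext x y
          simp only [Matrix.compAlgEquiv_apply, Matrix.comp_apply, Matrix.smul_apply, Matrix.single_apply]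
          split_ifs <;> simp
        rw [this]; exact Submodule.smul_mem _ _ hY
    convert hmem (Matrix.single p.2 q.2 (X p q)) p.1 q.1 using 1
    rw [Matrix.compAlgEquiv_apply, Matrix.comp_single_single]
  dim := by
    rw [Module.finrank_matrix, P.dim, Fintype.card_prod]; ring
  M σ := Units.map ((Matrix.compRingEquiv κ ι K).toMonoidHom.comp (Matrix.scalar κ).toMonoidHom) (P.M σ)
  rel σ a := by
    show Matrix.compRingEquiv κ ι K (a.map P.ψ) * Matrix.compRingEquiv κ ι K (Matrix.scalar κ (P.M σ : Matrix ι ι K)) =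
      Matrix.compRingEquiv κ ι K (Matrix.scalar κ (P.M σ : Matrix ι ι K)) *
        (Matrix.compRingEquiv κ ι K (a.map P.ψ)).map σ
    have e : (Matrix.compRingEquiv κ ι K (a.map P.ψ)).map σ =
        Matrix.compRingEquiv κ ι K (a.map fun x => (P.ψ x).map σ) := by
      ext x y; rfl
    rw [e, ← map_mul, ← map_mul]
    congr 1
    ext i j : 1
    simp only [Matrix.scalar_apply, Matrix.mul_diagonal, Matrix.diagonal_mul, Matrix.map_apply]
    exact P.rel σ (a i j)
  a := P.a
  cocycle σ τ := by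
    show Matrix.compRingEquiv κ ι K (Matrix.scalar κ (P.M σ : Matrix ι ι K)) *
      (Matrix.compRingEquiv κ ι K (Matrix.scalar κ (P.M τ : Matrix ι ι K))).map σ =
        (P.a σ τ : K) • Matrix.compRingEquiv κ ι K (Matrix.scalar κ (P.M (σ * τ) : Matrix ι ι K))
    have e : (Matrix.compRingEquiv κ ι K (Matrix.scalar κ (P.M τ : Matrix ι ι K))).map σ =
        Matrix.compRingEquiv κ ι K (Matrix.scalar κ ((P.M τ : Matrix ι ι K).map σ)) := by
      ext ⟨i, x⟩ ⟨j, y⟩
      simp only [Matrix.map_apply, Matrix.compRingEquiv_apply, Matrix.comp_apply, Matrix.scalar_apply,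
        Matrix.diagonal_apply]
      split_ifs <;> simp
    rw [e, ← map_mul, ← map_mul, P.cocycle]
    ext ⟨i, x⟩ ⟨j, y⟩
    simp only [Matrix.smul_apply, Matrix.compRingEquiv_apply, Matrix.comp_apply, Matrix.scalar_apply,
      Matrix.diagonal_apply]
    split_ifs <;> simp

theorem matrix_a (P : ProjRep k K A ι) (κ : Type) [Fintype κ] [DecidableEq κ] : (P.matrix κ).a = P.a := rfl

/-- Renaming the indices. -/
def reindex (P : ProjRep k K A ι) {κ : Type} [Fintype κ] [DecidableEq κ] (e : ι ≃ κ) : ProjRep k K A κ where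
  ψ := ((Matrix.reindexAlgEquiv k K e).toAlgHom).comp P.ψ
  span := by
    rw [eq_top_iff]
    intro X hX
    clear hX
    obtain ⟨Y, rfl⟩ := (Matrix.reindexAlgEquiv K K e).surjective X
    induction (P.span.symm ▸ Submodule.mem_top : Y ∈ Submodule.span K (Set.range P.ψ)) using
        Submodule.span_induction with
    | mem Y hY => obtain ⟨a, rfl⟩ := hY; exact Submodule.subset_span ⟨a, rfl⟩
    | zero => rw [map_zero]; exact zero_mem _
    | add Y Z _ _ hY hZ => rw [map_add]; exact add_mem hY hZ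
    | smul c Y _ hY => rw [map_smul]; exact Submodule.smul_mem _ _ hY
  dim := by rw [P.dim, Fintype.card_congr e]
  M σ := Units.map (Matrix.reindexAlgEquiv k K e).toMonoidHom (P.M σ)
  rel σ a := by
    show Matrix.reindexAlgEquiv k K e (P.ψ a) * Matrix.reindexAlgEquiv k K e (P.M σ : Matrix ι ι K) =
      Matrix.reindexAlgEquiv k K e (P.M σ : Matrix ι ι K) * (Matrix.reindexAlgEquiv k K e (P.ψ a)).map σ
    rw [← map_mul, P.rel, map_mul]
    rfl
  a := P.a
  cocycle σ τ := by
    show Matrix.reindexAlgEquiv k K e (P.M σ : Matrix ι ι K) *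
      (Matrix.reindexAlgEquiv k K e (P.M τ : Matrix ι ι K)).map σ =
        (P.a σ τ : K) • Matrix.reindexAlgEquiv k K e (P.M (σ * τ) : Matrix ι ι K)
    rw [show (Matrix.reindexAlgEquiv k K e (P.M τ : Matrix ι ι K)).map σ =
      Matrix.reindexAlgEquiv k K e ((P.M τ : Matrix ι ι K).map σ) from rfl, ← map_mul, P.cocycle]
    rfl

/-- Changing the matrices by scalars. -/
def rescale (P : ProjRep k K A ι) (c : (K ≃ₐ[k] K) → Kˣ) : ProjRep k K A ι where
  ψ := P.ψ
  span := P.span
  dim := P.dim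
  M σ := c σ • P.M σ
  rel σ a := by
    rw [Units.val_smul, mul_smul_comm, smul_mul_assoc, P.rel]
  a σ τ := c σ * Units.map (σ : K →* K) (c τ) * (c (σ * τ))⁻¹ * P.a σ τ
  cocycle σ τ := by
    simp only [Units.val_smul, Units.smul_def, map_smul_aut, smul_mul_smul_comm, P.cocycle, smul_smul,
      Units.val_mul, Units.coe_map, MonoidHom.coe_coe]
    congr 1
    have h0 : ((c (σ * τ))⁻¹ : Kˣ) * (c (σ * τ) : K) = 1 := Units.inv_mul _
    linear_combination -((c σ : K) * σ (c τ : K) * (P.a σ τ : K)) * h0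

theorem rescale_a (P : ProjRep k K A ι) (c : (K ≃ₐ[k] K) → Kˣ) (σ τ : K ≃ₐ[k] K) :
    (P.rescale c).a σ τ = c σ * Units.map (σ : K →* K) (c τ) * (c (σ * τ))⁻¹ * P.a σ τ := rfl

variable [FiniteDimensional k K] [IsGalois k K]

/-- Fixed matrices of the twisted action are the image of the algebra. -/
theorem mem_range_iff (P : ProjRep k K A ι) [FiniteDimensional k A] (Z : Matrix ι ι K) :
    Z ∈ Set.range P.ψ ↔ ∀ σ, Z * (P.M σ : Matrix ι ι K) = (P.M σ : Matrix ι ι K) * Z.map σ := by
  classical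
  refine ⟨fun ⟨a, ha⟩ σ => ha ▸ P.rel σ a, fun hZ => ?_⟩
  let b := Module.finBasis k A
  have hbspan : ⊤ ≤ Submodule.span K (Set.range (P.ψ ∘ b)) := by
    rw [← P.span]
    refine Submodule.span_le.2 ?_
    rintro _ ⟨a, rfl⟩
    rw [← b.sum_repr a, map_sum]
    refine sum_mem fun i _ => ?_
    rw [map_smul, ← algebraMap_smul K]
    exact Submodule.smul_mem _ _ (Submodule.subset_span ⟨i, rfl⟩)
  have hli : LinearIndependent K (P.ψ ∘ b) := by
    refine linearIndependent_of_top_le_span_of_card_eq_finrank hbspan ?_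
    rw [Fintype.card_fin, P.dim, Module.finrank_matrix, Module.finrank_self, mul_one]
  let B := Module.Basis.mk hli hbspan
  have hfix : ∀ (σ : K ≃ₐ[k] K) i, σ (B.repr Z i) = B.repr Z i := by
    intro σ i
    have h1 : Z * (P.M σ : Matrix ι ι K) = (∑ i, σ (B.repr Z i) • B i) * (P.M σ : Matrix ι ι K) := by
      rw [hZ σ]
      conv_lhs => rw [← B.sum_repr Z]
      have : (∑ i, B.repr Z i • B i).map σ = ∑ i, σ (B.repr Z i) • (B i).map σ := by
        ext x y
        simp only [Matrix.map_apply, Matrix.sum_apply, Matrix.smul_apply, smul_eq_mul, map_sum, map_mul]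
      rw [this, Finset.mul_sum, Finset.sum_mul]
      refine Finset.sum_congr rfl fun i _ => ?_
      rw [mul_smul_comm, smul_mul_assoc, show B i = P.ψ (b i) from Module.Basis.mk_apply _ _ i, P.rel]
    have h2 := (P.M σ).isUnit.mul_left_injective h1
    have h3 := congrArg (fun W => B.repr W i) h2
    simp only [B.repr_sum_self] at h3
    exact h3.symm
  have hk : ∀ i, ∃ c : k, algebraMap k K c = B.repr Z i := fun i =>
    (IsGalois.mem_bot_iff_fixed _).2 (fun σ => hfix σ i) |> IntermediateField.mem_bot.1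
  choose c hc using hk
  refine ⟨∑ i, c i • b i, ?_⟩
  conv_rhs => rw [← B.sum_repr Z]
  rw [map_sum]
  refine Finset.sum_congr rfl fun i _ => ?_
  rw [map_smul, ← hc, Module.Basis.mk_apply, algebraMap_smul]
  rfl

/-- Equal cocycles and degrees over an infinite field give isomorphic algebras. -/
theorem algEquiv_of_eq [Infinite k] [FiniteDimensional k A] [FiniteDimensional k B] [IsSimpleRing A]
    [IsSimpleRing B] (P : ProjRep k K A ι) (P' : ProjRep k K B ι) (h : P.a = P'.a) : Nonempty (A ≃ₐ[k] B) := by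
  classical
  letI : Module k (Matrix ι ι K) := inferInstance
  have hM1 : ∀ {C : Type u} [Ring C] [Algebra k C] (S : ProjRep k K C ι),
      (S.M 1 : Matrix ι ι K) = (S.a 1 1 : K) • (1 : Matrix ι ι K) := by
    intro C _ _ S
    have h1 := S.cocycle 1 1
    rw [mul_one, show (S.M 1 : Matrix ι ι K).map (1 : K ≃ₐ[k] K) = S.M 1 from Matrix.map_id _] at h1
    have h2 := congrArg (· * (↑(S.M 1)⁻¹ : Matrix ι ι K)) h1
    simpa only [mul_assoc, Units.mul_inv, mul_one, smul_mul_assoc] using h2
  let f : (K ≃ₐ[k] K) → Matrix ι ι K → Matrix ι ι K := fun σ T =>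
    (P.M σ : Matrix ι ι K) * T.map σ * (↑(P'.M σ)⁻¹ : Matrix ι ι K)
  have hf : ∀ σ τ T, f (σ * τ) T = f σ (f τ T) := by
    intro σ τ T
    have key : f σ (f τ T) * ((P'.M σ : Matrix ι ι K) * (P'.M τ : Matrix ι ι K).map σ) =
        f (σ * τ) T * ((P'.M σ : Matrix ι ι K) * (P'.M τ : Matrix ι ι K).map σ) := by
      calc f σ (f τ T) * ((P'.M σ : Matrix ι ι K) * (P'.M τ : Matrix ι ι K).map σ)
          = (P.M σ : Matrix ι ι K) * ((f τ T).map σ * (P'.M τ : Matrix ι ι K).map σ) := by
            simp only [f, mul_assoc]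
            rw [← mul_assoc (↑(P'.M σ)⁻¹ : Matrix ι ι K), Units.inv_mul, one_mul]
        _ = (P.M σ : Matrix ι ι K) * ((P.M τ : Matrix ι ι K).map σ * T.map (σ * τ : K ≃ₐ[k] K)) := by
            rw [← map_mul_aut]
            simp only [f, mul_assoc, Units.inv_mul, mul_one]
            rw [map_mul_aut, map_map_aut]
        _ = (P.a σ τ : K) • ((P.M (σ * τ) : Matrix ι ι K) * T.map (σ * τ : K ≃ₐ[k] K)) := by
            rw [← mul_assoc, P.cocycle, smul_mul_assoc]
        _ = f (σ * τ) T * ((P'.M σ : Matrix ι ι K) * (P'.M τ : Matrix ι ι K).map σ) := by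
            rw [P'.cocycle, h, mul_smul_comm]
            simp only [f, mul_assoc, Units.inv_mul, mul_one]
    exact (((P'.M σ).isUnit.mul (IsUnit.of_mul_eq_one _ (map_inv_aut σ (P'.M τ)))).mul_left_injective key).symm
  let ρ : Groth.L11.Descent.SemiAct k K (Matrix ι ι K) :=
    { act := fun σ =>
        { toFun := f σ
          map_zero' := by simp [f]
          map_add' := fun X Y => by simp only [f, map_add_aut, mul_add, add_mul] }
      act_one := fun T => by
        show f 1 T = T
        rw [← (P'.M 1).isUnit.mul_left_inj]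
        simp only [f, mul_assoc, Units.inv_mul, mul_one]
        rw [show T.map (1 : K ≃ₐ[k] K) = T from Matrix.map_id T, hM1 P, hM1 P', smul_mul_assoc, one_mul,
          mul_smul_comm, mul_one, h]
      act_mul := hf
      act_smul := fun σ c T => by
        show f σ (c • T) = σ c • f σ T
        simp only [f, map_smul_aut, mul_smul_comm, smul_mul_assoc] }
  -- an invertible invariant matrix
  obtain ⟨T, hTfix, hT⟩ : ∃ T ∈ ρ.fixed, IsUnit T := by
    have h1 : (1 : Matrix ι ι K) ∈ Submodule.span K (ρ.fixed : Set (Matrix ι ι K)) :=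
      ρ.span_fixed.symm ▸ Submodule.mem_top
    obtain ⟨r, g, w, hsum⟩ := Submodule.mem_span_set'.1 h1
    let W : Matrix ι ι (MvPolynomial (Fin r) K) := ∑ a, (MvPolynomial.X a : MvPolynomial (Fin r) K) •
      (w a : Matrix ι ι K).map MvPolynomial.C
    have hev : ∀ v : Fin r → K, MvPolynomial.eval v W.det = (∑ a, v a • (w a : Matrix ι ι K)).det := by
      intro v
      rw [RingHom.map_det]
      congr 1
      ext i j
      simp [W, Matrix.sum_apply]
    have hW : W.det ≠ 0 := fun h0 => by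
      have := hev g
      rw [h0, map_zero, hsum, Matrix.det_one] at this
      exact zero_ne_one this
    obtain ⟨v, hv, hvdet⟩ : ∃ v ∈ Set.pi Set.univ (fun _ : Fin r => Set.range (algebraMap k K)),
        MvPolynomial.eval v W.det ≠ 0 := by
      by_contra hc
      push Not at hc
      exact hW (MvPolynomial.funext_set (fun _ : Fin r => Set.range (algebraMap k K))
        (fun _ => Set.infinite_range_of_injective (algebraMap k K).injective)
        fun x hx => by rw [hc x hx, map_zero])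
    refine ⟨∑ a, v a • (w a : Matrix ι ι K), ?_, ?_⟩
    · refine Submodule.sum_mem _ fun a _ => ?_
      obtain ⟨c, hc⟩ := hv a trivial
      rw [← hc, algebraMap_smul]
      exact ρ.fixed.smul_mem c (w a).2
    · rw [Matrix.isUnit_iff_isUnit_det, ← hev, isUnit_iff_ne_zero]
      exact hvdet
  obtain ⟨T, rfl⟩ := hT
  have hT' : ∀ σ, (P.M σ : Matrix ι ι K) * (T : Matrix ι ι K).map σ = (T : Matrix ι ι K) * (P'.M σ : Matrix ι ι K) := by
    intro σ
    have := congrArg (· * (P'.M σ : Matrix ι ι K)) (hTfix σ)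
    change f σ T * _ = _ at this
    simpa only [f, mul_assoc, Units.inv_mul, mul_one] using this
  let φ : A →ₐ[k] Matrix ι ι K :=
    (MulSemiringAction.toAlgHom k (Matrix ι ι K) (ConjAct.toConjAct T⁻¹)).comp P.ψ
  have hφ : ∀ a, φ a = (↑T⁻¹ : Matrix ι ι K) * P.ψ a * (T : Matrix ι ι K) := fun a => by
    show ConjAct.toConjAct T⁻¹ • P.ψ a = _
    rw [ConjAct.units_smul_def]; simp
  have hmem : ∀ a, φ a ∈ P'.ψ.range := by
    intro a
    obtain ⟨b, hb⟩ := (P'.mem_range_iff (φ a)).2 fun σ => by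
      rw [hφ, map_mul_aut, map_mul_aut, mul_assoc _ (T : Matrix ι ι K), ← hT', mul_assoc,
        ← mul_assoc (P.ψ a), P.rel]
      have h3 : (P'.M σ : Matrix ι ι K) * (↑T⁻¹ : Matrix ι ι K).map σ = (↑T⁻¹ : Matrix ι ι K) * (P.M σ : Matrix ι ι K) := by
        rw [Units.eq_inv_mul_iff_mul_eq, ← mul_assoc, ← hT', mul_assoc, map_inv_aut, mul_one]
      rw [← mul_assoc, ← mul_assoc, ← mul_assoc, ← mul_assoc, h3]
    exact ⟨b, hb⟩
  haveI : Nonempty ι := by
    by_contra hc
    haveI : Subsingleton (Matrix ι ι K) := ⟨fun X Y => Matrix.ext fun i => (hc ⟨i⟩).elim⟩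
    haveI : Nontrivial B := inferInstance
    have hB := P'.dim
    rw [Fintype.card_eq_zero_iff.2 (not_nonempty_iff.1 hc), mul_zero] at hB
    exact Module.finrank_pos.ne' hB
  have hinj' : Function.Injective P'.ψ := RingHom.injective P'.ψ.toRingHom
  have hinj : Function.Injective φ := RingHom.injective φ.toRingHom
  let e' := AlgEquiv.ofInjective P'.ψ hinj'
  let Φ : A →ₐ[k] B := e'.symm.toAlgHom.comp (φ.codRestrict P'.ψ.range hmem)
  have hΦ : Function.Injective Φ := e'.symm.injective.comp fun a b hab => hinj (congrArg Subtype.val hab)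
  exact ⟨AlgEquiv.ofBijective Φ ⟨hΦ, (LinearMap.injective_iff_surjective_of_finrank_eq_finrank
    (f := Φ.toLinearMap) (P.dim.trans P'.dim.symm)).1 hΦ⟩⟩

/-- Cohomologous cocycles give Brauer equivalent algebras. -/
theorem beq_of_cohomologous [Infinite k] [FiniteDimensional k A] [FiniteDimensional k B] [IsSimpleRing A]
    [IsSimpleRing B] {κ : Type} [Fintype κ] [DecidableEq κ] [Nonempty ι] [Nonempty κ]
    (P : ProjRep k K A ι) (P' : ProjRep k K B κ) (c : (K ≃ₐ[k] K) → Kˣ)
    (h : ∀ σ τ, P.a σ τ = c σ * Units.map (σ : K →* K) (c τ) * (c (σ * τ))⁻¹ * P'.a σ τ) :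
    ∃ p q : ℕ, p ≠ 0 ∧ q ≠ 0 ∧ Nonempty (Matrix (Fin p) (Fin p) A ≃ₐ[k] Matrix (Fin q) (Fin q) B) := by
  haveI : Nonempty (Fin (Fintype.card κ)) := ⟨⟨0, Fintype.card_pos⟩⟩
  haveI : Nonempty (Fin (Fintype.card ι)) := ⟨⟨0, Fintype.card_pos⟩⟩
  refine ⟨Fintype.card κ, Fintype.card ι, Fintype.card_ne_zero, Fintype.card_ne_zero, ?_⟩
  refine algEquiv_of_eq ((P.matrix (Fin (Fintype.card κ))).reindex
    (((Equiv.prodCongr (Fintype.equivFin κ).symm (Equiv.refl ι)).trans (Equiv.prodComm κ ι))))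
    ((P'.rescale c).matrix (Fin (Fintype.card ι)) |>.reindex
      (Equiv.prodCongr (Fintype.equivFin ι).symm (Equiv.refl κ))) ?_
  funext σ τ
  exact h σ τ

end ProjRep

end Groth.L11.Amitsur
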