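import Groth.Agent.L11.Amitsur.ProjRep
import Mathlib.LinearAlgebra.PiTensorProduct
import Mathlib.RingTheory.PiTensorProduct
import Mathlib.RingTheory.LittleWedderburn
import Mathlib.RingTheory.SimpleRing.Matrix

/-!
# Tensor powers of projective representations
-/

set_option autoImplicit false
set_option linter.style.haveILetI false

universe u

open scoped TensorProduct

namespace Groth.L11.Amitsur

variable {k : Type u} [Field k] {K : Type u} [Field K] [Algebra k K]
  {A : Type u} [Ring A] [Algebra k A]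
  {ι : Type} [Fintype ι] [DecidableEq ι] (m : ℕ)

/-- Kronecker product of a family of matrices. -/
def kronFam (X : Fin m → Matrix ι ι K) : Matrix (Fin m → ι) (Fin m → ι) K :=
  Matrix.of fun f h => ∏ i, X i (f i) (h i)

theorem kronFam_mul (X Y : Fin m → Matrix ι ι K) :
    kronFam m X * kronFam m Y = kronFam m (fun i => X i * Y i) := by
  ext f h
  simp only [kronFam, Matrix.mul_apply, Matrix.of_apply]
  rw [Fintype.prod_sum]
  simp only [Finset.prod_mul_distrib]

theorem kronFam_one : kronFam m (fun _ => (1 : Matrix ι ι K)) = 1 := by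
  ext f h
  simp only [kronFam, Matrix.one_apply, Matrix.of_apply]
  rw [Fintype.prod_boole]
  simp [funext_iff]

theorem kronFam_map (X : Fin m → Matrix ι ι K) (σ : K ≃ₐ[k] K) :
    (kronFam m X).map σ = kronFam m (fun i => (X i).map σ) := by
  ext f h
  simp [kronFam, map_prod]

theorem kronFam_smul (c : K) (X : Matrix ι ι K) :
    kronFam m (fun _ => c • X) = c ^ m • kronFam m (fun _ => X) := by
  ext f h
  simp [kronFam, Finset.prod_mul_distrib]

/-- Kronecker power as a monoid map. -/
def kronPow : Matrix ι ι K →* Matrix (Fin m → ι) (Fin m → ι) K where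
  toFun X := kronFam m fun _ => X
  map_one' := kronFam_one m
  map_mul' X Y := (kronFam_mul m _ _).symm

/-- Kronecker product as a multilinear map. -/
noncomputable def kronMult (ψ : A →ₐ[k] Matrix ι ι K) :
    MultilinearMap k (fun _ : Fin m => A) (Matrix (Fin m → ι) (Fin m → ι) K) :=
  MultilinearMap.pi fun f => MultilinearMap.pi fun h =>
    (MultilinearMap.mkPiAlgebra k (Fin m) K).compLinearMap fun i =>
      { toFun := fun a => ψ a (f i) (h i)
        map_add' := fun a b => by simp
        map_smul' := fun c a => by simp }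

theorem kronMult_apply (ψ : A →ₐ[k] Matrix ι ι K) (x : Fin m → A) :
    kronMult m ψ x = kronFam m fun i => ψ (x i) := by
  ext f h
  rfl

/-- The representation of a tensor power. -/
noncomputable def tpowHom (ψ : A →ₐ[k] Matrix ι ι K) :
    CSAGal.tpow k A m →ₐ[k] Matrix (Fin m → ι) (Fin m → ι) K :=
  PiTensorProduct.liftAlgHom (kronMult m ψ)
    (by rw [kronMult_apply]; simp only [Pi.one_apply, map_one]; exact kronFam_one m)
    (fun x y => by simp only [kronMult_apply, Pi.mul_apply, map_mul]; exact (kronFam_mul m _ _).symm)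

theorem tpowHom_tprod (ψ : A →ₐ[k] Matrix ι ι K) (x : Fin m → A) :
    tpowHom m ψ (PiTensorProduct.tprod k x) = kronFam m fun i => ψ (x i) := by
  simp [tpowHom, PiTensorProduct.liftAlgHom, kronMult_apply]

variable [Algebra.IsCentral k A] [IsSimpleRing A] [FiniteDimensional k A]

theorem finrank_tpow (A : Type u) [Ring A] [Algebra k A] (m : ℕ) :
    Module.finrank k (CSAGal.tpow k A m) = Module.finrank k A ^ m := by
  induction m with
  | zero => rw [(Groth.L11.TPow.zeroEquiv k A).toLinearEquiv.finrank_eq, Module.finrank_self, pow_zero]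
  | succ m ih =>
    rw [← (Groth.L11.TPow.succEquiv k A m).toLinearEquiv.finrank_eq, Module.finrank_tensorProduct, ih, pow_succ]

namespace ProjRep

theorem exists_tpow [Nonempty ι] (P : ProjRep k K A ι) :
    ∃ Q : ProjRep k K (CSAGal.tpow k A m) (Fin m → ι), ∀ σ τ, Q.a σ τ = P.a σ τ ^ m := by
  classical
  haveI h1 := (Groth.L11.TPow.csa k A m).1
  haveI h2 := (Groth.L11.TPow.csa k A m).2.1
  haveI h3 := (Groth.L11.TPow.csa k A m).2.2
  let L : K ⊗[k] CSAGal.tpow k A m →ₐ[K] Matrix (Fin m → ι) (Fin m → ι) K :=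
    Algebra.TensorProduct.lift (Algebra.ofId K _) (tpowHom m P.ψ) fun r b => Algebra.commutes r _
  haveI : IsSimpleRing (K ⊗[k] CSAGal.tpow k A m) := CSA.isSimpleRing_baseChange k _ K
  haveI : Nontrivial (Matrix (Fin m → ι) (Fin m → ι) K) := inferInstance
  have hL : Function.Injective L := RingHom.injective L.toRingHom
  have hdim : Module.finrank k (CSAGal.tpow k A m) = Fintype.card (Fin m → ι) * Fintype.card (Fin m → ι) := by
    rw [finrank_tpow, P.dim, Fintype.card_fun, Fintype.card_fin, mul_pow]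
  have hLs : Function.Surjective L :=
    (LinearMap.injective_iff_surjective_of_finrank_eq_finrank (f := L.toLinearMap) (by
      rw [Module.finrank_baseChange, hdim, Module.finrank_matrix, Module.finrank_self, mul_one])).1 hL
  have hspan : Submodule.span K (Set.range (tpowHom m P.ψ)) = ⊤ := by
    rw [eq_top_iff]
    intro X hX
    clear hX
    obtain ⟨z, rfl⟩ := hLs X
    induction z using TensorProduct.induction_on with
    | zero => rw [map_zero]; exact zero_mem _
    | tmul c t =>
      rw [show L (c ⊗ₜ[k] t) = c • tpowHom m P.ψ t by simp [L, Algebra.smul_def]]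
      exact Submodule.smul_mem _ _ (Submodule.subset_span ⟨t, rfl⟩)
    | add x y hx hy => rw [map_add]; exact add_mem hx hy
  refine ⟨⟨tpowHom m P.ψ, hspan, hdim, fun σ => Units.map (kronPow m) (P.M σ), fun σ t => ?_,
    fun σ τ => P.a σ τ ^ m, fun σ τ => ?_⟩, fun σ τ => rfl⟩
  · show tpowHom m P.ψ t * kronFam m (fun _ => (P.M σ : Matrix ι ι K)) =
      kronFam m (fun _ => (P.M σ : Matrix ι ι K)) * (tpowHom m P.ψ t).map σ
    induction t using PiTensorProduct.induction_on with
    | smul_tprod r x =>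
      rw [map_smul, tpowHom_tprod, smul_mul_assoc, kronFam_mul]
      have e : (r • kronFam m fun i => P.ψ (x i)).map σ = r • (kronFam m fun i => P.ψ (x i)).map σ := by
        ext f h; exact map_smul σ r _
      rw [e, mul_smul_comm, kronFam_map, kronFam_mul]
      simp only [P.rel]
    | add x y hx hy => rw [map_add, add_mul, map_add_aut, mul_add, hx, hy]
  · show kronFam m (fun _ => (P.M σ : Matrix ι ι K)) * (kronFam m (fun _ => (P.M τ : Matrix ι ι K))).map σ =
      ((P.a σ τ ^ m : Kˣ) : K) • kronFam m (fun _ => (P.M (σ * τ) : Matrix ι ι K))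
    rw [kronFam_map, kronFam_mul, Units.val_pow_eq_pow_val, ← kronFam_smul, P.cocycle]

omit [Algebra.IsCentral k A] [IsSimpleRing A] [FiniteDimensional k A] in
/-- The cocycle is torsion. -/
theorem exists_coboundary_pow (P : ProjRep k K A ι) : ∃ d : (K ≃ₐ[k] K) → Kˣ, ∀ σ τ,
    P.a σ τ ^ Fintype.card ι = d σ * Units.map (σ : K →* K) (d τ) * (d (σ * τ))⁻¹ := by
  refine ⟨fun σ => Units.map Matrix.detMonoidHom (P.M σ), fun σ τ => ?_⟩
  rw [eq_mul_inv_iff_mul_eq]
  refine Units.ext ?_
  have h := congrArg Matrix.det (P.cocycle σ τ)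
  rw [Matrix.det_mul, Matrix.det_smul] at h
  simp only [Units.val_mul, Units.coe_map, MonoidHom.coe_coe, Matrix.coe_detMonoidHom, Units.val_pow_eq_pow_val]
  rw [← h]
  congr 1
  exact (RingHom.map_det (σ : K →+* K) _).symm

end ProjRep

/-- Over a finite field central simple algebras are split. -/
theorem exists_algEquiv_matrix_of_finite [Finite k] :
    ∃ r : ℕ, r ≠ 0 ∧ Nonempty (A ≃ₐ[k] Matrix (Fin r) (Fin r) k) := by
  haveI := CSA.isArtinianRing_of_finite k A
  obtain ⟨r, hr, D, _, _, _, ⟨e⟩⟩ := IsSimpleRing.exists_algEquiv_matrix_divisionRing_finite k A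
  haveI : Finite D := Module.finite_of_finite k
  haveI : Nonempty (Fin r) := ⟨⟨0, Nat.pos_of_ne_zero hr.out⟩⟩
  have hD : Function.Surjective (algebraMap k D) := by
    intro x
    have hc : Matrix.scalar (Fin r) x ∈ Subalgebra.center k (Matrix (Fin r) (Fin r) D) := by
      rw [Subalgebra.mem_center_iff]
      intro M
      exact (Matrix.scalar_commute x (fun y => @mul_comm D (littleWedderburn D).toCommMonoid.toCommMagma x y) M).symm
    have hc' : e.symm (Matrix.scalar (Fin r) x) ∈ Subalgebra.center k A := by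
      rw [Subalgebra.mem_center_iff]
      intro b
      refine e.injective ?_
      rw [map_mul, map_mul, e.apply_symm_apply]
      exact Subalgebra.mem_center_iff.1 hc (e b)
    rw [Algebra.IsCentral.center_eq_bot, Algebra.mem_bot] at hc'
    obtain ⟨c, hc'⟩ := hc'
    refine ⟨c, ?_⟩
    have h := congrArg e hc'
    rw [AlgEquiv.commutes, e.apply_symm_apply] at h
    have h2 := congrFun (congrFun h ⟨0, Nat.pos_of_ne_zero hr.out⟩) ⟨0, Nat.pos_of_ne_zero hr.out⟩
    simpa [Matrix.algebraMap_matrix_apply] using h2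
  exact ⟨r, hr.out, ⟨e.trans (AlgEquiv.ofBijective (Algebra.ofId k D)
    ⟨(algebraMap k D).injective, hD⟩).mapMatrix.symm⟩⟩

/-- Brauer equivalence with a tensor power from a cohomology relation of cocycles. -/
theorem exists_beq_tpow {B : Type u} [Ring B] [Algebra k B] [Algebra.IsCentral k B] [IsSimpleRing B]
    [FiniteDimensional k B] [FiniteDimensional k K] [IsGalois k K] [Nonempty ι] {κ : Type} [Fintype κ]
    [DecidableEq κ] [Nonempty κ] (P : ProjRep k K A ι) (P' : ProjRep k K B κ) (z : ℤ)
    (c : (K ≃ₐ[k] K) → Kˣ)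
    (h : ∀ σ τ, P'.a σ τ = c σ * Units.map (σ : K →* K) (c τ) * (c (σ * τ))⁻¹ * P.a σ τ ^ z) :
    ∃ (i p q : ℕ), p ≠ 0 ∧ q ≠ 0 ∧
      Nonempty (Matrix (Fin p) (Fin p) B ≃ₐ[k] Matrix (Fin q) (Fin q) (CSAGal.tpow k A i)) := by
  rcases finite_or_infinite k with hk | hk
  · obtain ⟨r, hr, ⟨e⟩⟩ := exists_algEquiv_matrix_of_finite (k := k) (A := B)
    let e0 := Groth.L11.TPow.zeroEquiv k A
    exact ⟨0, (Groth.L11.Br.BEq.of_algEquiv (e.trans e0.symm.mapMatrix)).trans
      (Groth.L11.Br.BEq.matrix_left (CSAGal.tpow k A 0) hr)⟩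
  · obtain ⟨d, hd⟩ := P.exists_coboundary_pow
    let n : ℤ := Fintype.card ι
    have hn : 0 < n := by simp [n, Fintype.card_pos]
    let i := (z % n).toNat
    have hi : (i : ℤ) = z - n * (z / n) := by
      rw [show (i : ℤ) = z % n from Int.toNat_of_nonneg (Int.emod_nonneg z hn.ne'), Int.emod_def]
    obtain ⟨Q, hQ⟩ := P.exists_tpow i
    haveI := (Groth.L11.TPow.csa k A i).2.1
    haveI := (Groth.L11.TPow.csa k A i).2.2
    suffices key : ∀ σ τ, P'.a σ τ = (c σ * d σ ^ (z / n)) * Units.map (σ : K →* K) (c τ * d τ ^ (z / n)) *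
        (c (σ * τ) * d (σ * τ) ^ (z / n))⁻¹ * Q.a σ τ by
      exact ⟨i, ProjRep.beq_of_cohomologous P' Q _ key⟩
    intro σ τ
    rw [h, hQ, map_mul, map_zpow, ← zpow_natCast (P.a σ τ) i, hi]
    have e1 : P.a σ τ ^ z = P.a σ τ ^ (z - n * (z / n)) *
        (d σ * Units.map (σ : K →* K) (d τ) * (d (σ * τ))⁻¹) ^ (z / n) := by
      rw [← hd, ← zpow_natCast (P.a σ τ) (Fintype.card ι), ← zpow_mul, ← zpow_add]
      congr 1
      ring
    rw [e1, mul_zpow, mul_zpow, inv_zpow, mul_inv]
    refine Units.ext ?_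
    simp only [Units.val_mul]
    ring

end Groth.L11.Amitsur
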